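import Groth.Agent.ShriekLQF.Stalk
import Groth.Agent.EtH0Pair.Proper
import Groth.Agent.EtH0Pair.Basic
import Groth.Agent.EtShLib.LimSect
import Groth.Agent.EtIntegral.BaseChange
import Mathlib

/-!
Sections with proper support and their restrictions to a geometric fibre; every section on the fibre of a
proper morphism spreads out to an etale neighbourhood.
-/

set_option autoImplicit false
set_option backward.isDefEq.respectTransparency false
set_option backward.isDefEq.respectTransparency.types false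
set_option linter.style.haveILetI false

universe u

open CategoryTheory CategoryTheory.Limits AlgebraicGeometry Opposite

noncomputable section

namespace Groth.Agent.ShriekH0c

open Groth.Agent.EtH0Pair

section Res

variable {Z X : Scheme.{u}} (i : Z ⟶ X) (F : EtCoh.Ab X)

/-- a section pulled back and restricted -/
def res {T : Z.Etale} {U : X.Etale} (δ : T ⟶ (EtCoh.bc i).obj U) :
    EtCoh.sect F U →+ EtCoh.sect ((EtCoh.pull i).obj F) T :=
  (((EtCoh.pull i).obj F).obj.map δ.op).hom.comp (unitSec i F U)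

theorem map_map' {S : Scheme.{u}} (G : EtCoh.Ab S) {U V W : S.Etale} (b : V ⟶ U) (a : W ⟶ V) (s : EtCoh.sect G U) :
    G.obj.map a.op (G.obj.map b.op s) = G.obj.map (a ≫ b).op s := by
  rw [op_comp, Functor.map_comp]
  rfl

theorem map_res {T T' : Z.Etale} {U : X.Etale} (e : T' ⟶ T) (δ : T ⟶ (EtCoh.bc i).obj U) (s : EtCoh.sect F U) :
    ((EtCoh.pull i).obj F).obj.map e.op (res i F δ s) = res i F (e ≫ δ) s :=
  map_map' _ δ e _

theorem res_map {T : Z.Etale} {U U' : X.Etale} (a : U' ⟶ U) (δ : T ⟶ (EtCoh.bc i).obj U') (s : EtCoh.sect F U) :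
    res i F δ (F.obj.map a.op s) = res i F (δ ≫ (EtCoh.bc i).map a) s := by
  refine Eq.trans ?_ (map_map' ((EtCoh.pull i).obj F) ((EtCoh.bc i).map a) δ (unitSec i F U s))
  exact congrArg (((EtCoh.pull i).obj F).obj.map δ.op) (unitSec_map i F a s).symm

theorem sectSupp_res {T : Z.Etale} {U : X.Etale} (δ : T ⟶ (EtCoh.bc i).obj U) (s : EtCoh.sect F U) :
    EtShriek.sectSupp ((EtCoh.pull i).obj F) T (res i F δ s) =
      {w | pullback.fst U.hom i (δ.left w) ∈ EtShriek.sectSupp F U s} := by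
  refine (ShriekLQF.sectSupp_map _ δ (unitSec i F U s)).trans ?_
  ext w
  exact EtPushStalk.mem_sectSupp_unit_iff i F U s (δ.left w)

theorem res_eq_iff {T : Z.Etale} {U : X.Etale} (δ : T ⟶ (EtCoh.bc i).obj U) (s t : EtCoh.sect F U) :
    res i F δ s = res i F δ t ↔ ∀ w : T.left, pullback.fst U.hom i (δ.left w) ∉ EtShriek.sectSupp F U (s - t) :=
  unitSec_res_eq_iff i F s t δ

end Res

/-- points of cartesian squares -/
theorem exists_preimage_of_isPullback {P A B C : Scheme.{u}} {p : P ⟶ A} {q : P ⟶ B} {g : A ⟶ C} {h : B ⟶ C}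
    (sq : IsPullback p q g h) (a : A) (b : B) (e : g a = h b) : ∃ x : P, p x = a ∧ q x = b := by
  obtain ⟨z, hz1, hz2⟩ := Scheme.Pullback.exists_preimage_pullback a b e
  exact ⟨sq.isoPullback.inv z, by rw [← Scheme.Hom.comp_apply, sq.isoPullback_inv_fst]; exact hz1,
    by rw [← Scheme.Hom.comp_apply, sq.isoPullback_inv_snd]; exact hz2⟩

theorem eq_zero_of_sectSupp {S : Scheme.{u}} (G : EtCoh.Ab S) {U : S.Etale} (s : EtCoh.sect G U)
    (h : ∀ x, x ∉ EtShriek.sectSupp G U s) : s = 0 := by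
  have h' := (EtSect.map_eq_zero_iff G s (𝟙 U)).mpr fun x _ => h x
  rw [op_id, CategoryTheory.Functor.map_id] at h'
  exact h'

section Fib

variable {X Y : Scheme.{u}} (f : X ⟶ Y) {Ω : Type u} [Field Ω] (η : Spec (CommRingCat.of Ω) ⟶ Y) {V : Y.Etale}
  (v : Over.mk η ⟶ (Scheme.Etale.forget Y).obj V)

/-- the fibre inside `X ×_Y V` -/
def fib : pullback f η ⟶ ((EtCoh.bc f).obj V).left :=
  pullback.lift (pullback.snd f η ≫ v.left) (pullback.fst f η) (by
    rw [Category.assoc, pullback.condition]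
    exact congrArg (pullback.snd f η ≫ ·) (Over.w v))

theorem fib_fst : fib f η v ≫ pullback.fst V.hom f = pullback.snd f η ≫ v.left := pullback.lift_fst _ _ _

theorem fib_snd : fib f η v ≫ pullback.snd V.hom f = pullback.fst f η := pullback.lift_snd _ _ _

theorem isPullback_fib : IsPullback (fib f η v) (pullback.snd f η) (EtShriek.prV f V) v.left := by
  refine IsPullback.of_right (h₁₂ := pullback.snd V.hom f) (v₁₃ := f) (h₂₂ := V.hom) ?_ (fib_fst f η v)
    (IsPullback.of_hasPullback V.hom f).flip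
  have e : v.left ≫ V.hom = η := Over.w v
  exact (congrArg₂ (fun a d => IsPullback a (pullback.snd f η) f d) (fib_snd f η v) e).mpr
    (IsPullback.of_hasPullback f η)

theorem exists_fib_eq (y : ((EtCoh.bc f).obj V).left)
    (hy : pullback.fst V.hom f y = v.left (default : Spec (CommRingCat.of Ω))) : ∃ x, fib f η v x = y := by
  obtain ⟨x, hx, -⟩ := exists_preimage_of_isPullback (isPullback_fib f η v) y _ hy
  exact ⟨x, hx⟩

/-- the tautological map of the fibre into the base change -/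
def δF : EtCoh.top (pullback f η) ⟶ (EtCoh.bc (pullback.fst f η)).obj ((EtCoh.bc f).obj V) :=
  EtShLib.mkδ (T := EtCoh.top (pullback f η)) (o := (EtCoh.bc f).obj V) (pullback.fst f η) (fib f η v)
    ((fib_snd f η v).trans (Category.id_comp _).symm)

/-- restriction to the fibre -/
def ρ (F : EtCoh.Ab X) : EtCoh.sect F ((EtCoh.bc f).obj V) →+
    EtCoh.sect ((EtCoh.pull (pullback.fst f η)).obj F) (EtCoh.top (pullback f η)) :=
  res (pullback.fst f η) F (δF f η v)

theorem sectSupp_ρ (F : EtCoh.Ab X) (s : EtCoh.sect F ((EtCoh.bc f).obj V)) :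
    EtShriek.sectSupp ((EtCoh.pull (pullback.fst f η)).obj F) (EtCoh.top (pullback f η)) (ρ f η v F s) =
      fib f η v ⁻¹' EtShriek.sectSupp F _ s := by
  refine (sectSupp_res _ F (δF f η v) s).trans ?_
  ext x
  rw [Set.mem_ofPred_eq, Set.mem_preimage, ← EtShLib.mkδ_fst (T := EtCoh.top (pullback f η))
    (o := (EtCoh.bc f).obj V) (pullback.fst f η) (fib f η v) ((fib_snd f η v).trans (Category.id_comp _).symm)]
  rfl

theorem ρ_map (F : EtCoh.Ab X) {V' : Y.Etale} (φ : V' ⟶ V) (v' : Over.mk η ⟶ (Scheme.Etale.forget Y).obj V')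
    (hv' : v' ≫ (Scheme.Etale.forget Y).map φ = v) (s : EtCoh.sect F ((EtCoh.bc f).obj V)) :
    ρ f η v' F (F.obj.map ((EtCoh.bc f).map φ).op s) = ρ f η v F s := by
  refine (res_map _ F _ (δF f η v') s).trans ?_
  suffices e : δF f η v' ≫ (EtCoh.bc (pullback.fst f η)).map ((EtCoh.bc f).map φ) = δF f η v by
    rw [e]
    rfl
  refine EtShLib.bc_ext _ ?_
  refine Eq.trans ?_ (EtShLib.mkδ_fst _ _ _).symm
  refine (Category.assoc _ _ _).trans ((congrArg ((δF f η v').left ≫ ·)
    (EtShLib.bc_map_fst (pullback.fst f η) ((EtCoh.bc f).map φ))).trans ?_)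
  refine (Category.assoc _ _ _).symm.trans ((congrArg (· ≫ ((EtCoh.bc f).map φ).left) (EtShLib.mkδ_fst _ _ _)).trans ?_)
  apply pullback.hom_ext
  · refine (Category.assoc _ _ _).trans ((congrArg (fib f η v' ≫ ·) (EtShLib.bc_map_fst f φ)).trans ?_)
    rw [← Category.assoc, fib_fst, fib_fst, Category.assoc, ← hv']
    rfl
  · refine (Category.assoc _ _ _).trans ((congrArg (fib f η v' ≫ ·) (EtShLib.bc_map_snd f φ)).trans ?_)
    rw [fib_snd, fib_snd]

theorem mem_H0c_iff {k : Type u} [Field k] {W : Scheme.{u}} (p : W ⟶ Spec (CommRingCat.of k)) [LocallyOfFiniteType p]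
    (G : EtCoh.Ab W) (t : EtCoh.sect G (EtCoh.top W)) :
    t ∈ EtShriek.H0c p G ↔ ClSub.IsProperOver p (EtShriek.sectSupp G (EtCoh.top W) t) := by
  haveI : LocallyOfFiniteType (X := (EtCoh.top W).left) p := ‹_›
  refine ⟨fun h => ?_, fun h => AddSubgroup.subset_closure ((ShriekLQF.hasProperSupport_iff G _ t p).mpr h)⟩
  induction h using AddSubgroup.closure_induction with
  | mem x hx => exact (ShriekLQF.hasProperSupport_iff G _ x p).mp hx
  | zero => rw [ShriekLQF.sectSupp_zero]; exact ClSubLib.isProperOver_empty p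
  | add x y _ _ hx hy =>
    exact ClSubLib.mono (ClSubLib.isProperOver_union p hx hy) (EtSect.isClosed_sectSupp G _)
      (ShriekLQF.sectSupp_add_subset G _ x y)
  | neg x _ hx => rw [ShriekLQF.sectSupp_neg]; exact hx

variable [LocallyOfFiniteType f]

theorem ρ_mem_H0c (F : EtCoh.Ab X) (s : EtShriek.shriekSubgroup f F V) :
    ρ f η v F s.1 ∈ EtShriek.H0c (pullback.snd f η) ((EtCoh.pull (pullback.fst f η)).obj F) := by
  rw [mem_H0c_iff, sectSupp_ρ]
  exact ClSubLib.isProperOver_baseChange (isPullback_fib f η v)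
    ((ShriekLQF.mem_shriekSubgroup_iff F f V s.1).mp s.2)

end Fib

/-- sections of an inverse image at a geometric point come from neighbourhoods -/
theorem exists_res_eq_point {B : Scheme.{u}} {Ω : Type u} [Field Ω] [IsSepClosed Ω]
    (i : Spec (CommRingCat.of Ω) ⟶ B) (G : EtCoh.Ab B)
    (z : EtCoh.sect ((EtCoh.pull i).obj G) (EtCoh.top (Spec (CommRingCat.of Ω)))) :
    ∃ (U : B.Etale) (δ : EtCoh.top (Spec (CommRingCat.of Ω)) ⟶ (EtCoh.bc i).obj U) (t : EtCoh.sect G U),
      res i G δ t = z := by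
  let ξ : Spec (CommRingCat.of Ω) ⟶ Spec (CommRingCat.of Ω) := 𝟙 _
  let v₀ : Over.mk ξ ⟶ (Scheme.Etale.forget _).obj (EtCoh.top (Spec (CommRingCat.of Ω))) :=
    Over.homMk ξ (Category.comp_id _)
  obtain ⟨w, hw⟩ := ((ConcreteCategory.isIso_iff_bijective ((EtStalk.stalkPullIso i ξ).hom.app G)).mp inferInstance).2
    ((Scheme.pointSmallEtale ξ).toPresheafFiber (EtCoh.top _) v₀ ((EtCoh.pull i).obj G).obj z)
  obtain ⟨U, v, t, rfl⟩ := (Scheme.pointSmallEtale (ξ ≫ i)).toPresheafFiber_jointly_surjective (P := G.obj) w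
  let δ : EtCoh.top (Spec (CommRingCat.of Ω)) ⟶ (EtCoh.bc i).obj U :=
    EtShLib.mkδ (T := EtCoh.top (Spec (CommRingCat.of Ω))) (o := U) i v.left (Over.w v)
  refine ⟨U, δ, t, (sub_eq_zero.mp (eq_zero_of_sectSupp _ _ fun x => ?_)).symm⟩
  rw [show x = v₀.left (default : Spec (CommRingCat.of Ω)) from Subsingleton.elim (α := Spec (CommRingCat.of Ω)) _ _]
  refine (EtPushStalk.germ_eq_zero_iff _ ξ _ v₀ _).mp ?_
  rw [map_sub, sub_eq_zero]
  refine hw.symm.trans ((EtIntegral.stalkPullIso_germ i ξ G U v t).trans ?_)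
  have e : v₀ ≫ (Scheme.Etale.forget _).map δ = EtPushStalk.up i ξ v := by
    refine Over.OverMorphism.ext ?_
    change ξ ≫ pullback.lift v.left (𝟙 _) _ = pullback.lift v.left ξ _
    exact Category.id_comp _
  rw [← e]
  exact (GrothendieckTopology.Point.toPresheafFiber_w_apply (Scheme.pointSmallEtale ξ) δ v₀
    ((EtCoh.pull i).obj G).obj _).symm

/-- sections on a geometric fibre of a proper morphism spread out -/
theorem exists_ρ_eq {P B : Scheme.{u}} (p : P ⟶ B) [IsProper p] {Ω : Type u} [Field Ω] [IsSepClosed Ω]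
    (η : Spec (CommRingCat.of Ω) ⟶ B) (J : EtCoh.Ab P)
    (τ : EtCoh.sect ((EtCoh.pull (pullback.fst p η)).obj J) (EtCoh.top (pullback p η))) :
    ∃ (V : B.Etale) (v : Over.mk η ⟶ (Scheme.Etale.forget B).obj V) (σ : EtCoh.sect J ((EtCoh.bc p).obj V)),
      ρ p η v J σ = τ := by
  let a := pullback.fst p η
  let q := pullback.snd p η
  have h : IsPullback a q p η := IsPullback.of_hasPullback p η
  haveI := EtH0Pair.isIso_baseChange0_proper p q a η h J
  let bc0 := EtCoh.baseChange0 p η q a h.w J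
  haveI : IsIso bc0.hom := inferInstanceAs (IsIso ((sheafToPresheaf _ _).map bc0))
  let T0 := EtCoh.top (Spec (CommRingCat.of Ω))
  let J' := (EtCoh.pull a).obj J
  obtain ⟨z, hz⟩ := (ConcreteCategory.bijective_of_isIso (bc0.hom.app (op T0))).2
    (J'.obj.map (toTopX ((EtCoh.bc q).obj T0)).op τ)
  obtain ⟨U, δ, t, ht⟩ := exists_res_eq_point η ((EtCoh.push p).obj J) z
  let vl : Spec (CommRingCat.of Ω) ⟶ U.left := δ.left ≫ pullback.fst U.hom η
  let v : Over.mk η ⟶ (Scheme.Etale.forget B).obj U := Over.homMk vl (by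
    change (δ.left ≫ pullback.fst U.hom η) ≫ U.hom = η
    rw [Category.assoc, pullback.condition, ← Category.assoc]
    exact (congrArg (· ≫ η) (MorphismProperty.Over.w δ)).trans (Category.id_comp _))
  refine ⟨U, v, t, ?_⟩
  let σ₀ : EtCoh.top (pullback p η) ⟶ (EtCoh.bc q).obj T0 :=
    EtShLib.mkδ (T := EtCoh.top (pullback p η)) (o := T0) q q ((Category.comp_id _).trans (Category.id_comp _).symm)
  have e1 : J'.obj.map ((EtCoh.bc q).map δ).op
      (J'.obj.map (EtIntegral.bcSwap p η q a h.w U).op (unitSec a J ((EtCoh.bc p).obj U) t)) =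
      J'.obj.map (toTopX ((EtCoh.bc q).obj T0)).op τ := by
    rw [← hz, ← ht]
    refine Eq.trans ?_ (NatTrans.naturality_apply bc0.hom δ.op _).symm
    exact congrArg (J'.obj.map ((EtCoh.bc q).map δ).op) (EtIntegral.baseChange0_unit p η q a h.w J U t).symm
  have e2 := congrArg (J'.obj.map σ₀.op) e1
  rw [map_map', map_map', map_map'] at e2
  rw [show σ₀ ≫ toTopX ((EtCoh.bc q).obj T0) = 𝟙 _ from hom_top_eq _ _, op_id, CategoryTheory.Functor.map_id] at e2
  refine Eq.trans ?_ e2
  suffices e : (σ₀ ≫ (EtCoh.bc q).map δ) ≫ EtIntegral.bcSwap p η q a h.w U = δF p η v by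
    rw [e]
    rfl
  refine EtShLib.bc_ext _ ?_
  refine Eq.trans ?_ (EtShLib.mkδ_fst _ _ _).symm
  apply pullback.hom_ext
  · refine Eq.trans ?_ (fib_fst p η v).symm
    change (((σ₀.left ≫ ((EtCoh.bc q).map δ).left) ≫ (EtIntegral.bcSwap p η q a h.w U).left) ≫ _) ≫ _ = _
    simp only [Category.assoc]
    erw [EtIntegral.bcSwap_fst p η q a h.w U, reassoc_of% (EtShLib.bc_map_fst q δ)]
    exact (Category.assoc _ _ _).symm.trans (congrArg (· ≫ vl) (EtShLib.mkδ_fst _ _ _))
  · refine Eq.trans ?_ (fib_snd p η v).symm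
    refine (Category.assoc _ _ _).trans ((congrArg (_ ≫ ·) pullback.condition).trans ?_)
    refine (Category.assoc _ _ _).symm.trans ((congrArg (· ≫ a) (MorphismProperty.Over.w _)).trans ?_)
    exact Category.id_comp _

section Phi

variable {X Y : Scheme.{u}} (f : X ⟶ Y) {Ω : Type u} [Field Ω] [IsSepClosed Ω]
  (η : Spec (CommRingCat.of Ω) ⟶ Y) (F : EtCoh.Ab X)

/-- restriction of germs to the fibre -/
def Φpre : (Scheme.pointSmallEtale η).presheafFiber.obj (EtShriek.lowerShriekPre f F) ⟶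
    ((EtCoh.pull (pullback.fst f η)).obj F).obj.obj (op (EtCoh.top (pullback f η))) :=
  (Scheme.pointSmallEtale η).presheafFiberDesc
    (fun V v => AddCommGrpCat.ofHom ((ρ f η v F).comp (EtShriek.shriekSubgroup f F V).subtype))
    (fun V V' φ v => by
      ext s
      exact ρ_map f η _ F φ v rfl s.1)

/-- restriction of the stalk of the direct image with proper support to the fibre -/
def Φ : (EtCoh.stalk η).obj ((EtShriek.lowerShriek f).obj F) ⟶
    ((EtCoh.pull (pullback.fst f η)).obj F).obj.obj (op (EtCoh.top (pullback f η))) :=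
  inv ((Scheme.pointSmallEtale η).presheafFiber.map
    (toSheafify Y.smallEtaleTopology (EtShriek.lowerShriekPre f F))) ≫ Φpre f η F

theorem Φ_germ (V : Y.Etale) (v : Over.mk η ⟶ (Scheme.Etale.forget Y).obj V) (s : EtShriek.shriekSubgroup f F V) :
    Φ f η F (ShriekLQF.germ f η F V v s) = ρ f η v F s.1 := by
  have h : ShriekLQF.germ f η F V v ≫ Φ f η F =
      AddCommGrpCat.ofHom ((ρ f η v F).comp (EtShriek.shriekSubgroup f F V).subtype) := by
    rw [ShriekLQF.germ, Φ, Category.assoc, IsIso.hom_inv_id_assoc]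
    exact GrothendieckTopology.Point.toPresheafFiber_presheafFiberDesc (Φ := Scheme.pointSmallEtale η) _ _ V v
  exact ConcreteCategory.congr_hom h s

theorem Φ_injective [LocallyOfFiniteType f] : Function.Injective (Φ f η F) := by
  rw [injective_iff_map_eq_zero]
  intro z hz
  obtain ⟨V, v, s, rfl⟩ := ShriekLQF.exists_germ f η F z
  rw [Φ_germ] at hz
  obtain ⟨hc, hp⟩ := (ShriekLQF.mem_shriekSubgroup_iff F f V s.1).mp s.2
  let i := ClSubLib.redι _ hc
  haveI : IsProper (i ≫ EtShriek.prV f V) := hp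
  let C : Set V.left := EtShriek.prV f V '' EtShriek.sectSupp F _ s.1
  have hC : IsClosed C := by
    have : C = Set.range (i ≫ EtShriek.prV f V) := by
      rw [show ⇑(i ≫ EtShriek.prV f V) = EtShriek.prV f V ∘ i from funext fun x => Scheme.Hom.comp_apply _ _ x,
        Set.range_comp, ClSubLib.range_redι]
    rw [this]
    exact (i ≫ EtShriek.prV f V).isClosedMap.isClosed_range
  have hvC : v.left (default : Spec (CommRingCat.of Ω)) ∉ C := by
    rintro ⟨y, hy, hyv⟩
    obtain ⟨x, rfl⟩ := exists_fib_eq f η v y hyv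
    have h0 := sectSupp_ρ f η v F s.1
    rw [hz, ShriekLQF.sectSupp_zero] at h0
    exact (h0.ge hy : x ∈ (∅ : Set _))
  let O : V.left.Opens := ⟨Cᶜ, hC.isOpen_compl⟩
  let V' : Y.Etale := EtH0Pair.openPiece V O
  let φ : V' ⟶ V := EtH0Pair.openPieceHom V O
  let vl : Spec (CommRingCat.of Ω) ⟶ O.toScheme := IsOpenImmersion.lift O.ι v.left (by
    rintro _ ⟨x, rfl⟩
    rw [Scheme.Opens.range_ι, Subsingleton.elim (α := Spec (CommRingCat.of Ω)) x default]
    exact hvC)
  let v' : Over.mk η ⟶ (Scheme.Etale.forget Y).obj V' := Over.homMk vl (by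
    change vl ≫ O.ι ≫ V.hom = η
    rw [IsOpenImmersion.lift_fac_assoc]
    exact Over.w v)
  have hv' : v' ≫ (Scheme.Etale.forget Y).map φ = v := Over.OverMorphism.ext (IsOpenImmersion.lift_fac _ _ _)
  have hs : (EtShriek.lowerShriekPre f F).map φ.op s = 0 := by
    refine Subtype.ext (eq_zero_of_sectSupp F (U := (EtCoh.bc f).obj V') _ fun y hy => ?_)
    change y ∈ EtShriek.sectSupp F _ (F.obj.map ((EtCoh.bc f).map φ).op s.1) at hy
    rw [ShriekLQF.sectSupp_map] at hy
    refine (pullback.fst V'.hom f y).2 ⟨_, hy, ?_⟩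
    exact congrArg (fun m : ((EtCoh.bc f).obj V').left ⟶ V.left => m y) (EtShLib.bc_map_fst f φ)
  have e : ShriekLQF.germ f η F V v s = ShriekLQF.germ f η F V' v' ((EtShriek.lowerShriekPre f F).map φ.op s) := by
    rw [← hv', ShriekLQF.germ, ShriekLQF.germ, ConcreteCategory.comp_apply, ConcreteCategory.comp_apply]
    refine congrArg _ ?_
    exact (GrothendieckTopology.Point.toPresheafFiber_w_apply (Scheme.pointSmallEtale η) φ v'
      (EtShriek.lowerShriekPre f F) s).symm
  rw [e, hs, map_zero]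

end Phi

end Groth.Agent.ShriekH0c
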