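import Groth.Agent.ShriekH0c.Spread
import Groth.Agent.S0384
import Mathlib

/-!
The stalk of the direct image with proper support is the group of sections with compact support on the fibre.
-/

set_option autoImplicit false
set_option backward.isDefEq.respectTransparency false
set_option backward.isDefEq.respectTransparency.types false
set_option linter.style.haveILetI false
set_option maxHeartbeats 1000000

universe u

open CategoryTheory CategoryTheory.Limits AlgebraicGeometry Opposite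

noncomputable section

namespace Groth.Agent.ShriekH0c

variable {X Y : Scheme.{u}} (f : X ⟶ Y) [IsSeparated f] [LocallyOfFiniteType f] {Ω : Type u} [Field Ω]
  [IsSepClosed Ω] (η : Spec (CommRingCat.of Ω) ⟶ Y) (F : EtCoh.Ab X)

/-- a quasi-compact open containing a compact subset -/
theorem exists_compact_nhd {Z : Scheme.{u}} (O : Z.Opens) {K : Set Z} (hK : IsCompact K) (hKO : K ⊆ O) :
    ∃ W : Z.Opens, IsCompact (W : Set Z) ∧ K ⊆ W ∧ W ≤ O := by
  have hA : ∀ x : K, ∃ A : Z.Opens, IsAffineOpen A ∧ x.1 ∈ A ∧ A ≤ O := fun x => by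
    obtain ⟨A, hA, hx, hle⟩ := exists_isAffineOpen_mem_and_subset (hKO x.2)
    exact ⟨A, hA, hx, hle⟩
  choose A hA hx hle using hA
  obtain ⟨T, hT⟩ := hK.elim_finite_subcover (fun x => (A x : Set Z)) (fun x => (A x).isOpen)
    fun x hxK => Set.mem_iUnion.mpr ⟨⟨x, hxK⟩, hx _⟩
  refine ⟨⟨⋃ x ∈ T, (A x : Set Z), isOpen_biUnion fun x _ => (A x).isOpen⟩,
    T.finite_toSet.isCompact_biUnion fun x _ => (hA x).isCompact, hT, ?_⟩
  intro z hz
  obtain ⟨x, -, hzx⟩ := Set.mem_iUnion₂.mp hz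
  exact hle x hzx

theorem exists_ρ_eq_of_H0c
    (t : EtCoh.sect ((EtCoh.pull (pullback.fst f η)).obj F) (EtCoh.top (pullback f η)))
    (ht : t ∈ EtShriek.H0c (pullback.snd f η) ((EtCoh.pull (pullback.fst f η)).obj F)) :
    ∃ (V : Y.Etale) (v : Over.mk η ⟶ (Scheme.Etale.forget Y).obj V) (s : EtShriek.shriekSubgroup f F V),
      ρ f η v F s.1 = t := by
  rw [mem_H0c_iff] at ht
  obtain ⟨hKc, hKp⟩ := id ht
  let kι := ClSubLib.redι _ hKc
  haveI : IsProper (kι ≫ pullback.snd f η) := hKp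
  haveI : CompactSpace ↥(Scheme.IdealSheafData.vanishingIdeal ⟨_, hKc⟩).subscheme :=
    QuasiCompact.compactSpace_of_compactSpace (kι ≫ pullback.snd f η)
  obtain ⟨V₀, hV₀, hy, -⟩ := exists_isAffineOpen_mem_and_subset (X := Y) (U := ⊤)
    (x := η (default : Spec (CommRingCat.of Ω))) (Set.mem_univ _)
  let a := pullback.fst f η
  let K := Set.range (kι ≫ a)
  have hK : IsCompact K := isCompact_range (kι ≫ a).continuous
  have hKV : K ⊆ f ⁻¹ᵁ V₀ := by
    rintro _ ⟨z, rfl⟩
    change f ((kι ≫ a) z) ∈ V₀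
    rw [← Scheme.Hom.comp_apply, Category.assoc, pullback.condition, Scheme.Hom.comp_apply, Scheme.Hom.comp_apply]
    exact (congrArg η (Subsingleton.elim (α := Spec (CommRingCat.of Ω)) _ default)).symm ▸ hy
  obtain ⟨W, hWc, hKW, hWV⟩ := exists_compact_nhd (f ⁻¹ᵁ V₀) hK hKV
  haveI : CompactSpace W.toScheme := isCompact_iff_compactSpace.mp hWc
  haveI : IsAffine V₀.toScheme := hV₀
  let g : W.toScheme ⟶ V₀.toScheme := IsOpenImmersion.lift V₀.ι (W.ι ≫ f) (by
    rintro _ ⟨w, rfl⟩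
    rw [Scheme.Opens.range_ι, Scheme.Hom.comp_apply]
    exact hWV w.2)
  have hg : g ≫ V₀.ι = W.ι ≫ f := IsOpenImmersion.lift_fac _ _ _
  haveI : IsSeparated (g ≫ V₀.ι) := by rw [hg]; infer_instance
  haveI : LocallyOfFiniteType (g ≫ V₀.ι) := by rw [hg]; infer_instance
  haveI : IsSeparated g := IsSeparated.of_comp g V₀.ι
  haveI : LocallyOfFiniteType g := locallyOfFiniteType_of_comp g V₀.ι
  haveI : QuasiCompact g := HasAffineProperty.iff_of_isAffine.mpr ‹CompactSpace W.toScheme›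
  obtain ⟨P, j, pb, _, -, _, hpb⟩ := Groth.Agent.S0384.result g
  let η₀ : Spec (CommRingCat.of Ω) ⟶ V₀.toScheme := IsOpenImmersion.lift V₀.ι η (by
    rintro _ ⟨x, rfl⟩
    rw [Scheme.Opens.range_ι, Subsingleton.elim (α := Spec (CommRingCat.of Ω)) x default]
    exact hy)
  refine exists_spread f W.ι j pb V₀.ι (by rw [← Category.assoc, hpb, hg]) η η₀ (IsOpenImmersion.lift_fac _ _ _) F t
    ht fun x hx => ?_
  rw [Scheme.Opens.range_ι]
  obtain ⟨z, hz⟩ := (ClSubLib.range_redι _ hKc).ge hx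
  refine hKW ⟨z, ?_⟩
  rw [Scheme.Hom.comp_apply, hz]
  rfl

/-- the stalk is the compactly supported sections on the fibre -/
theorem nonempty_stalk_iso_H0c :
    Nonempty ((EtCoh.stalk η).obj ((EtShriek.lowerShriek f).obj F) ≅
      AddCommGrpCat.of (EtShriek.H0c (pullback.snd f η) ((EtCoh.pull (pullback.fst f η)).obj F))) := by
  let H := EtShriek.H0c (pullback.snd f η) ((EtCoh.pull (pullback.fst f η)).obj F)
  have hmem : ∀ z, Φ f η F z ∈ H := fun z => by
    obtain ⟨V, v, s, rfl⟩ := ShriekLQF.exists_germ f η F z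
    rw [Φ_germ]
    exact ρ_mem_H0c f η v F s
  let φ := (Φ f η F).hom.codRestrict H hmem
  have hφ : Function.Bijective φ := by
    refine ⟨fun a b h => Φ_injective f η F (congrArg Subtype.val h), fun ⟨t, ht⟩ => ?_⟩
    obtain ⟨V, v, s, hs⟩ := exists_ρ_eq_of_H0c f η F t ht
    exact ⟨ShriekLQF.germ f η F V v s, Subtype.ext ((Φ_germ f η F V v s).trans hs)⟩
  exact ⟨(AddEquiv.ofBijective φ hφ).toAddCommGrpIso⟩

end Groth.Agent.ShriekH0c
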