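import Groth.Agent.ShriekH0c.Fibre
import Groth.Agent.EtShLib.Nested
import Mathlib

/-!
Pulling back twice, compatibly with pulled back sections, for abelian sheaves.
-/

set_option autoImplicit false
set_option backward.isDefEq.respectTransparency false
set_option backward.isDefEq.respectTransparency.types false
set_option linter.style.haveILetI false

universe u

open CategoryTheory CategoryTheory.Limits AlgebraicGeometry Opposite

noncomputable section

namespace Groth.Agent.ShriekH0c

open Groth.Agent.EtH0Pair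

theorem exists_nested_ab {W B S : Scheme.{u}} (a : W ⟶ B) (b : B ⟶ S) (k : W ⟶ S) (hk : a ≫ b = k) (G : EtCoh.Ab S) :
    ∃ θ : (EtCoh.pull a).obj ((EtCoh.pull b).obj G) ⟶ (EtCoh.pull k).obj G, IsIso θ ∧
      ∀ (T : W.Etale) (o : S.Etale) (δ₁ : T ⟶ (EtCoh.bc a).obj ((EtCoh.bc b).obj o)) (δ : T ⟶ (EtCoh.bc k).obj o),
        δ₁.left ≫ pullback.fst ((EtCoh.bc b).obj o).hom a ≫ pullback.fst o.hom b = δ.left ≫ pullback.fst o.hom k →
        ∀ s : EtCoh.sect G o,
          θ.hom.app (op T) (res a ((EtCoh.pull b).obj G) δ₁ (unitSec b G o s)) = res k G δ s := by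
  subst hk
  refine ⟨(EtCore.pullComp a b).inv.app G, inferInstance, fun T o δ₁ δ h s => ?_⟩
  let A := EtCoh.pullPushAdj (a ≫ b)
  let B' := ((EtCoh.pullPushAdj b).comp (EtCoh.pullPushAdj a)).ofNatIsoRight (EtCoh.pushComp b a)
  let θ := (EtCore.pullComp a b).inv.app G
  let K := (MorphismProperty.Over.pullbackComp (P := EtCoh.etaleMP) (Q := ⊤) a b).app o
  have hB : B'.unit.app G ≫ (EtCoh.push (a ≫ b)).map θ = A.unit.app G := by
    rw [← Adjunction.unit_leftAdjointUniq_hom_app A B' G, Category.assoc, ← Functor.map_comp]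
    refine Eq.trans (congrArg (fun m => _ ≫ (EtCoh.push (a ≫ b)).map m) ?_) (by rw [CategoryTheory.Functor.map_id, Category.comp_id])
    exact (EtCore.pullComp a b).hom_inv_id_app G
  have hB' : B'.unit.app G = (EtCoh.pullPushAdj b).unit.app G ≫
      (EtCoh.push b).map ((EtCoh.pullPushAdj a).unit.app _) ≫ (EtCoh.pushComp b a).hom.app _ := by
    have h1 := Adjunction.homEquiv_ofNatIsoRight_apply
      ((EtCoh.pullPushAdj b).comp (EtCoh.pullPushAdj a)) (EtCoh.pushComp b a)
      (𝟙 ((EtCoh.pull b ⋙ EtCoh.pull a).obj G))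
    rw [Adjunction.homEquiv_id, Adjunction.homEquiv_id] at h1
    rw [show B'.unit.app G = _ from h1, Adjunction.comp_unit_app, Category.assoc]
    rfl
  rw [hB'] at hB
  have h1 : θ.hom.app (op ((EtCoh.bc (a ≫ b)).obj o))
      (((EtCoh.pull a).obj ((EtCoh.pull b).obj G)).obj.map K.hom.op
        (unitSec a ((EtCoh.pull b).obj G) ((EtCoh.bc b).obj o) (unitSec b G o s))) = unitSec (a ≫ b) G o s := by
    have := ConcreteCategory.congr_hom
      (congrArg (fun m : G ⟶ (EtCoh.push (a ≫ b)).obj ((EtCoh.pull (a ≫ b)).obj G) => m.hom.app (op o)) hB) s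
    refine Eq.trans ?_ this
    simp [EtCoh.pushComp, Functor.sheafPushforwardContinuousComp', Functor.sheafPushforwardContinuousIso,
      Functor.sheafPushforwardContinuousComp]
    exact NatTrans.naturality_apply θ.hom K.hom.op _
  have hδ : δ₁ = δ ≫ K.hom := by
    refine EtShLib.bc_ext a (pullback.hom_ext ?_ ?_)
    · rw [Category.assoc, Category.assoc, h]
      refine Eq.trans ?_ (Category.assoc δ.left K.hom.left _).symm
      exact congrArg (δ.left ≫ ·) (MorphismProperty.Over.pullbackComp_left_fst_fst a b o).symm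
    · rw [Category.assoc, Category.assoc]
      have e₁ : δ₁.left ≫ pullback.fst ((EtCoh.bc b).obj o).hom a ≫ pullback.snd o.hom b = T.hom ≫ a := by
        rw [show pullback.snd o.hom b = ((EtCoh.bc b).obj o).hom from rfl, pullback.condition, ← Category.assoc]
        exact congrArg (· ≫ a) (MorphismProperty.Over.w δ₁)
      have e₂ : (δ ≫ K.hom).left ≫ pullback.fst ((EtCoh.bc b).obj o).hom a ≫ pullback.snd o.hom b = T.hom ≫ a := by
        rw [show pullback.snd o.hom b = ((EtCoh.bc b).obj o).hom from rfl, pullback.condition, ← Category.assoc]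
        exact congrArg (· ≫ a) (MorphismProperty.Over.w (δ ≫ K.hom))
      exact e₁.trans e₂.symm
  subst hδ
  rw [← map_res]
  refine (NatTrans.naturality_apply θ.hom δ.op _).trans ?_
  exact congrArg _ h1

end Groth.Agent.ShriekH0c
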