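import Groth.Agent.ShriekH0c.Main
import Groth.Agent.ShriekH0c.Nested
import Groth.Agent.ShriekLQF.Comp
import Mathlib

/-!
The direct image with proper support commutes with base change.
-/

set_option autoImplicit false
set_option backward.isDefEq.respectTransparency false
set_option backward.isDefEq.respectTransparency.types false
set_option linter.style.haveILetI false
set_option maxHeartbeats 1000000

universe u

open CategoryTheory CategoryTheory.Limits AlgebraicGeometry Opposite

noncomputable section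

namespace Groth.Agent.ShriekH0c

open Groth.Agent.EtH0Pair Groth.Agent.EtIntegral

variable {X Y X' Y' : Scheme.{u}} (f : X ⟶ Y) (g : Y' ⟶ Y) (f' : X' ⟶ Y') (g' : X' ⟶ X)
  (hc : IsPullback g' f' f g) (F : EtCoh.Ab X)

include hc

theorem isPullback_swap (V : Y.Etale) :
    IsPullback ((bcSwap f g f' g' hc.w V).left ≫ pullback.fst ((EtCoh.bc f).obj V).hom g')
      (EtShriek.prV f' ((EtCoh.bc g).obj V)) (EtShriek.prV f V) (pullback.fst V.hom g) := by
  refine IsPullback.of_right (h₁₂ := pullback.snd V.hom f) (v₁₃ := f) (h₂₂ := V.hom) ?_ ?_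
    (IsPullback.of_hasPullback V.hom f).flip
  · have e : ((bcSwap f g f' g' hc.w V).left ≫ pullback.fst ((EtCoh.bc f).obj V).hom g') ≫ pullback.snd V.hom f =
        pullback.snd ((EtCoh.bc g).obj V).hom f' ≫ g' := by
      refine (Category.assoc _ _ _).trans ((congrArg (_ ≫ ·) pullback.condition).trans ?_)
      exact (Category.assoc _ _ _).symm.trans (congrArg (· ≫ g') (MorphismProperty.Over.w (bcSwap f g f' g' hc.w V)))
    exact (congrArg₂ (fun a d => IsPullback a (EtShriek.prV f' ((EtCoh.bc g).obj V)) f d) e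
      pullback.condition).mpr ((IsPullback.of_hasPullback ((EtCoh.bc g).obj V).hom f').flip.paste_horiz hc)
  · exact (Category.assoc _ _ _).trans (bcSwap_fst f g f' g' hc.w V)

theorem bcSwap_natural {V V' : Y.Etale} (φ : V' ⟶ V) :
    (EtCoh.bc f').map ((EtCoh.bc g).map φ) ≫ bcSwap f g f' g' hc.w V =
      bcSwap f g f' g' hc.w V' ≫ (EtCoh.bc g').map ((EtCoh.bc f).map φ) := by
  refine EtShLib.bc_ext _ ?_
  rw [comp_bc_fst g' _ _ rfl]
  change (((EtCoh.bc f').map ((EtCoh.bc g).map φ)).left ≫ (bcSwap f g f' g' hc.w V).left) ≫ _ = _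
  apply pullback.hom_ext
  · simp only [Category.assoc]
    refine (congrArg (_ ≫ ·) (bcSwap_fst f g f' g' hc.w V)).trans ?_
    refine Eq.trans ?_ (congrArg (_ ≫ ·) (congrArg (_ ≫ ·) (EtShLib.bc_map_fst f φ))).symm
    refine Eq.trans ?_ ((reassoc_of% (bcSwap_fst f g f' g' hc.w V')) φ.left).symm
    refine (reassoc_of% (EtShLib.bc_map_fst f' ((EtCoh.bc g).map φ))) (pullback.fst V.hom g) |>.trans ?_
    exact congrArg (_ ≫ ·) (EtShLib.bc_map_fst g φ)
  · simp only [Category.assoc]
    refine (congrArg (fun m => ((EtCoh.bc f').map ((EtCoh.bc g).map φ)).left ≫ (bcSwap f g f' g' hc.w V).left ≫ m)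
      pullback.condition).trans ?_
    refine Eq.trans ?_ (congrArg (_ ≫ ·) (congrArg (_ ≫ ·) (EtShLib.bc_map_snd f φ))).symm
    refine Eq.trans ?_ (congrArg (_ ≫ ·) pullback.condition).symm
    refine (congrArg (_ ≫ ·) ((Category.assoc _ _ _).symm.trans
      (congrArg (· ≫ g') (MorphismProperty.Over.w (bcSwap f g f' g' hc.w V))))).trans ?_
    refine Eq.trans ?_ ((Category.assoc _ _ _).symm.trans
      (congrArg (· ≫ g') (MorphismProperty.Over.w (bcSwap f g f' g' hc.w V')))).symm
    exact (Category.assoc _ _ _).symm.trans (congrArg (· ≫ g') (EtShLib.bc_map_snd f' ((EtCoh.bc g).map φ)))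

/-- pulled back sections -/
def γ (V : Y.Etale) : EtCoh.sect F ((EtCoh.bc f).obj V) →+
    EtCoh.sect ((EtCoh.pull g').obj F) ((EtCoh.bc f').obj ((EtCoh.bc g).obj V)) :=
  res g' F (bcSwap f g f' g' hc.w V)

theorem γ_mem [LocallyOfFiniteType f] (V : Y.Etale) (s : EtShriek.shriekSubgroup f F V) :
    γ f g f' g' hc F V s.1 ∈ EtShriek.shriekSubgroup f' ((EtCoh.pull g').obj F) ((EtCoh.bc g).obj V) := by
  haveI : LocallyOfFiniteType f' := MorphismProperty.of_isPullback (P := @LocallyOfFiniteType) hc ‹_›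
  rw [ShriekLQF.mem_shriekSubgroup_iff, γ, sectSupp_res]
  have h := ClSubLib.isProperOver_baseChange (isPullback_swap f g f' g' hc V)
    ((ShriekLQF.mem_shriekSubgroup_iff F f V s.1).mp s.2)
  convert h using 1
  refine Set.ext fun w => ?_
  rw [Set.mem_ofPred_eq, Set.mem_preimage, Scheme.Hom.comp_apply]
  exact Iff.rfl

variable [LocallyOfFiniteType f]

/-- the map on presheaves -/
def γpre : EtShriek.lowerShriekPre f F ⟶
    ((EtCoh.push g).obj ((EtShriek.lowerShriek f').obj ((EtCoh.pull g').obj F))).obj where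
  app V := AddCommGrpCat.ofHom (((γ f g f' g' hc F V.unop).comp (EtShriek.shriekSubgroup f F V.unop).subtype).codRestrict
      (EtShriek.shriekSubgroup f' ((EtCoh.pull g').obj F) ((EtCoh.bc g).obj V.unop))
      (fun s => γ_mem f g f' g' hc F V.unop s)) ≫
    (toSheafify Y'.smallEtaleTopology (EtShriek.lowerShriekPre f' ((EtCoh.pull g').obj F))).app
      (op ((EtCoh.bc g).obj V.unop))
  naturality V V' φ := by
    ext s
    change (toSheafify Y'.smallEtaleTopology (EtShriek.lowerShriekPre f' ((EtCoh.pull g').obj F))).app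
        (op ((EtCoh.bc g).obj V'.unop)) _ = _
    refine Eq.trans (congrArg _ ?_) (NatTrans.naturality_apply
      (toSheafify Y'.smallEtaleTopology (EtShriek.lowerShriekPre f' ((EtCoh.pull g').obj F)))
      ((EtCoh.bc g).map φ.unop).op _)
    refine Subtype.ext ?_
    change γ f g f' g' hc F V'.unop (F.obj.map ((EtCoh.bc f).map φ.unop).op s.1) =
      ((EtCoh.pull g').obj F).obj.map ((EtCoh.bc f').map ((EtCoh.bc g).map φ.unop)).op (γ f g f' g' hc F V.unop s.1)
    rw [γ, γ, res_map, map_res, bcSwap_natural f g f' g' hc φ.unop]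

/-- the base change map -/
def bcShriek : (EtCoh.pull g).obj ((EtShriek.lowerShriek f).obj F) ⟶
    (EtShriek.lowerShriek f').obj ((EtCoh.pull g').obj F) :=
  ((EtCoh.pullPushAdj g).homEquiv _ _).symm
    ⟨sheafifyLift Y.smallEtaleTopology (γpre f g f' g' hc F) ((EtCoh.push g).obj _).property⟩

theorem bcShriek_germ {Ω : Type u} [Field Ω] [IsSepClosed Ω] (ζ : Spec (CommRingCat.of Ω) ⟶ Y') (V : Y.Etale)
    (v : Over.mk (ζ ≫ g) ⟶ (Scheme.Etale.forget Y).obj V) (s : EtShriek.shriekSubgroup f F V) :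
    (EtCoh.stalk ζ).map (bcShriek f g f' g' hc F)
        ((EtStalk.stalkPullIso g ζ).hom.app ((EtShriek.lowerShriek f).obj F)
          (ShriekLQF.germ f (ζ ≫ g) F V v s)) =
      ShriekLQF.germ f' ζ ((EtCoh.pull g').obj F) ((EtCoh.bc g).obj V) (EtPushStalk.up g ζ v)
        ⟨γ f g f' g' hc F V s.1, γ_mem f g f' g' hc F V s⟩ := by
  let G := (EtShriek.lowerShriek f).obj F
  let σ : EtCoh.sect G V := (toSheafify Y.smallEtaleTopology (EtShriek.lowerShriekPre f F)).app (op V) s
  have e : ShriekLQF.germ f (ζ ≫ g) F V v s = (Scheme.pointSmallEtale (ζ ≫ g)).toPresheafFiber V v G.obj σ :=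
    GrothendieckTopology.Point.toPresheafFiber_naturality_apply (Scheme.pointSmallEtale (ζ ≫ g))
      (toSheafify Y.smallEtaleTopology (EtShriek.lowerShriekPre f F)) V v s
  rw [e, EtIntegral.stalkPullIso_germ]
  refine (GrothendieckTopology.Point.toPresheafFiber_naturality_apply (Scheme.pointSmallEtale ζ)
    (bcShriek f g f' g' hc F).hom _ _ _).trans ?_
  refine Eq.trans (congrArg _ ?_) (GrothendieckTopology.Point.toPresheafFiber_naturality_apply
    (Scheme.pointSmallEtale ζ) (toSheafify Y'.smallEtaleTopology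
      (EtShriek.lowerShriekPre f' ((EtCoh.pull g').obj F))) _ _ _).symm
  have h := ((EtCoh.pullPushAdj g).homEquiv_unit (f := bcShriek f g f' g' hc F)).symm
  rw [bcShriek, Equiv.apply_symm_apply] at h
  refine (ConcreteCategory.congr_hom (congrArg (fun m : G ⟶
    (EtCoh.push g).obj ((EtShriek.lowerShriek f').obj ((EtCoh.pull g').obj F)) => m.hom.app (op V)) h) σ).trans ?_
  exact ConcreteCategory.congr_hom (congrArg (fun m : EtShriek.lowerShriekPre f F ⟶ _ => m.app (op V))
    (toSheafify_sheafifyLift Y.smallEtaleTopology (γpre f g f' g' hc F) ((EtCoh.push g).obj _).property)) s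

theorem bijective_bcShriek_stalk [IsSeparated f] {Ω : Type u} [Field Ω] [IsSepClosed Ω]
    (ζ : Spec (CommRingCat.of Ω) ⟶ Y') : Function.Bijective ((EtCoh.stalk ζ).map (bcShriek f g f' g' hc F)) := by
  haveI : LocallyOfFiniteType f' := MorphismProperty.of_isPullback (P := @LocallyOfFiniteType) hc ‹_›
  let η := ζ ≫ g
  let a := pullback.fst f η
  let a' := pullback.fst f' ζ
  let F' := (EtCoh.pull g').obj F
  let T := EtCoh.top (pullback f η)
  let T' := EtCoh.top (pullback f' ζ)
  have hP : IsPullback (a' ≫ g') (pullback.snd f' ζ) f η :=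
    (IsPullback.of_hasPullback f' ζ).paste_horiz hc
  let ei : pullback f η ⟶ pullback f' ζ := hP.isoPullback.inv
  have hei : ei ≫ a' ≫ g' = a := hP.isoPullback_inv_fst
  have heq : ei ≫ pullback.snd f' ζ = pullback.snd f η := hP.isoPullback_inv_snd
  obtain ⟨θ₁, _, hθ₁⟩ := exists_nested_ab a' g' (a' ≫ g') rfl F
  obtain ⟨θ₃, _, hθ₃⟩ := exists_nested_ab ei (a' ≫ g') a hei F
  let te : T ⟶ (EtCoh.bc ei).obj T' :=
    EtShLib.mkδ (T := T) (o := T') ei ei ((Category.comp_id _).trans (Category.id_comp _).symm)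
  let Ψ : EtCoh.sect ((EtCoh.pull a').obj F') T' →+ EtCoh.sect ((EtCoh.pull a).obj F) T :=
    (θ₃.hom.app (op T)).hom.comp ((res ei _ te).comp (θ₁.hom.app (op T')).hom)
  have hb₁ : Function.Bijective (θ₁.hom.app (op T')) := by
    haveI : IsIso θ₁.hom := inferInstanceAs (IsIso ((sheafToPresheaf _ _).map θ₁))
    exact ConcreteCategory.bijective_of_isIso _
  have hsuppΨ : ∀ t, EtShriek.sectSupp ((EtCoh.pull a).obj F) T (Ψ t) =
      ei ⁻¹' EtShriek.sectSupp ((EtCoh.pull a').obj F') T' t := by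
    intro t
    refine (ShriekLQF.sectSupp_app_of_mono θ₃ T (res ei _ te (θ₁.hom.app (op T') t))).symm.trans ?_
    refine (sectSupp_res ei _ te _).trans ?_
    rw [← ShriekLQF.sectSupp_app_of_mono θ₁ T' t]
    ext x
    rw [Set.mem_ofPred_eq, Set.mem_preimage]
    have e : te.left ≫ pullback.fst T'.hom ei = ei := EtShLib.mkδ_fst _ _ _
    have e' : pullback.fst T'.hom ei (te.left x) = ei x :=
      (Scheme.Hom.comp_apply _ _ x).symm.trans (congrArg (fun m : T.left ⟶ T'.left => m x) e)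
    exact Iff.of_eq (congrArg (· ∈ EtShriek.sectSupp ((EtCoh.pull a').obj F') T' t) e')
  have hΨinj : ∀ t, Ψ t = 0 → t = 0 := fun t ht => by
    refine eq_zero_of_sectSupp ((EtCoh.pull a').obj F') t fun x hx => ?_
    have := hsuppΨ t
    rw [ht, ShriekLQF.sectSupp_zero] at this
    refine (Set.ext_iff.mp this (hP.isoPullback.hom x)).mpr ?_
    change ei (hP.isoPullback.hom x) ∈ EtShriek.sectSupp ((EtCoh.pull a').obj F') T' t
    rw [← Scheme.Hom.comp_apply, hP.isoPullback.hom_inv_id]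
    exact hx
  have hΨ : ∀ (V : Y.Etale) (v : Over.mk η ⟶ (Scheme.Etale.forget Y).obj V) (s : EtCoh.sect F ((EtCoh.bc f).obj V)),
      Ψ (ρ f' ζ (EtPushStalk.up g ζ v) F' (γ f g f' g' hc F V s)) = ρ f η v F s := by
    intro V v s
    let W' := (EtCoh.bc f').obj ((EtCoh.bc g).obj V)
    let m : pullback f' ζ ⟶ ((EtCoh.bc f).obj V).left :=
      fib f' ζ (EtPushStalk.up g ζ v) ≫ (bcSwap f g f' g' hc.w V).left ≫ pullback.fst ((EtCoh.bc f).obj V).hom g'
    have hm1 : m ≫ pullback.fst V.hom f = pullback.snd f' ζ ≫ v.left := by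
      simp only [m, Category.assoc]
      refine (congrArg (_ ≫ ·) (bcSwap_fst f g f' g' hc.w V)).trans ?_
      refine ((reassoc_of% (fib_fst f' ζ (EtPushStalk.up g ζ v))) (pullback.fst V.hom g)).trans ?_
      exact congrArg (_ ≫ ·) (pullback.lift_fst _ _ _)
    have hm2 : m ≫ pullback.snd V.hom f = a' ≫ g' := by
      simp only [m, Category.assoc]
      refine (congrArg (_ ≫ ·) (congrArg (_ ≫ ·) pullback.condition)).trans ?_
      refine (congrArg (_ ≫ ·) ((Category.assoc _ _ _).symm.trans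
        (congrArg (· ≫ g') (MorphismProperty.Over.w (bcSwap f g f' g' hc.w V))))).trans ?_
      exact (Category.assoc _ _ _).symm.trans (congrArg (· ≫ g') (fib_snd f' ζ (EtPushStalk.up g ζ v)))
    let δk : T' ⟶ (EtCoh.bc (a' ≫ g')).obj ((EtCoh.bc f).obj V) :=
      EtShLib.mkδ (T := T') (o := (EtCoh.bc f).obj V) (a' ≫ g') m (hm2.trans (Category.id_comp _).symm)
    have e1 : θ₁.hom.app (op T') (ρ f' ζ (EtPushStalk.up g ζ v) F' (γ f g f' g' hc F V s)) =
        res (a' ≫ g') F δk s := by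
      refine (congrArg (θ₁.hom.app (op T')) (res_map a' F' _ _ _)).trans ?_
      refine hθ₁ T' _ _ δk ?_ s
      refine Eq.trans ?_ (EtShLib.mkδ_fst _ _ _).symm
      refine (Category.assoc _ _ _).symm.trans ((congrArg (· ≫ _) (comp_bc_fst a' _ _ (EtShLib.mkδ_fst _ _ _))).trans ?_)
      exact Category.assoc _ _ _
    change θ₃.hom.app (op T) (res ei _ te (θ₁.hom.app (op T') _)) = _
    rw [e1]
    refine (congrArg (θ₃.hom.app (op T)) (res_map ei _ δk te _)).trans ?_
    refine hθ₃ T _ _ (δF f η v) ?_ s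
    refine Eq.trans ?_ (EtShLib.mkδ_fst _ _ _).symm
    refine (Category.assoc _ _ _).symm.trans ((congrArg (· ≫ _) (comp_bc_fst ei te δk (EtShLib.mkδ_fst _ _ _))).trans ?_)
    refine (Category.assoc _ _ _).trans ((congrArg (ei ≫ ·) (EtShLib.mkδ_fst _ _ _)).trans ?_)
    apply pullback.hom_ext
    · rw [fib_fst, Category.assoc, hm1, ← Category.assoc, heq]
    · rw [fib_snd, Category.assoc, hm2, hei]
  let Q := (EtStalk.stalkPullIso g ζ).hom.app ((EtShriek.lowerShriek f).obj F)
  have hQ : Function.Bijective Q := (ConcreteCategory.isIso_iff_bijective _).mp inferInstance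
  constructor
  · rw [injective_iff_map_eq_zero]
    intro w hw
    obtain ⟨z, rfl⟩ := hQ.2 w
    obtain ⟨V, v, s, rfl⟩ := ShriekLQF.exists_germ f η F z
    rw [bcShriek_germ] at hw
    have h0 := Φ_germ f' ζ F' _ (EtPushStalk.up g ζ v) ⟨_, γ_mem f g f' g' hc F V s⟩
    rw [hw, map_zero] at h0
    have h1 : ρ f η v F s.1 = 0 := by rw [← hΨ, ← h0, map_zero]
    rw [← Φ_germ] at h1
    rw [Φ_injective f η F (h1.trans (map_zero _).symm), map_zero]
  · intro z'
    let t := Ψ (Φ f' ζ F' z')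
    have ht : t ∈ EtShriek.H0c (pullback.snd f η) ((EtCoh.pull a).obj F) := by
      obtain ⟨V', v', s', hs'⟩ := ShriekLQF.exists_germ f' ζ F' z'
      have := ρ_mem_H0c f' ζ v' F' s'
      rw [← Φ_germ, hs', mem_H0c_iff] at this
      rw [mem_H0c_iff, hsuppΨ]
      exact ClSubLib.isProperOver_preimage ei heq this
    obtain ⟨V, v, s, hs⟩ := exists_ρ_eq_of_H0c f η F t ht
    refine ⟨Q (ShriekLQF.germ f η F V v s), ?_⟩
    rw [bcShriek_germ]
    refine Φ_injective f' ζ F' (sub_eq_zero.mp (hΨinj _ ?_))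
    rw [map_sub, Φ_germ]
    exact sub_eq_zero.mpr ((hΨ V v s.1).trans hs)

theorem isIso_bcShriek [IsSeparated f] : IsIso (bcShriek f g f' g' hc F) :=
  EtIntegral.isIso_of_algClosed _ fun _ _ _ _ ζ => bijective_bcShriek_stalk f g f' g' hc F ζ

end Groth.Agent.ShriekH0c
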