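import Groth.Agent.ShriekH0c.BaseChange
import Groth.Agent.EtIntegral.BaseChange
import Mathlib

/-!
Compatibility of base change for direct images with proper support with base change for direct images.
-/

set_option autoImplicit false
set_option backward.isDefEq.respectTransparency false
set_option backward.isDefEq.respectTransparency.types false
set_option linter.style.haveILetI false
set_option maxHeartbeats 1000000

universe u

open CategoryTheory CategoryTheory.Limits AlgebraicGeometry Opposite

noncomputable section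

namespace Groth.Agent.ShriekH0c

open Groth.Agent.EtH0Pair Groth.Agent.EtIntegral

variable {X Y X' Y' : Scheme.{u}} (f : X ⟶ Y) (g : Y' ⟶ Y) (f' : X' ⟶ Y') (g' : X' ⟶ X)
  (hc : IsPullback g' f' f g) (F : EtCoh.Ab X)

theorem toPush_app {A B : Scheme.{u}} (q : A ⟶ B) (G : EtCoh.Ab A) (V : B.Etale)
    (s : (EtShriek.lowerShriekPre q G).obj (op V)) :
    (EtShriek.lowerShriekToPush q G).hom.app (op V)
      ((toSheafify B.smallEtaleTopology (EtShriek.lowerShriekPre q G)).app (op V) s) = s.1 :=
  ConcreteCategory.congr_hom (congrArg (fun m : EtShriek.lowerShriekPre q G ⟶ ((EtCoh.push q).obj G).obj => m.app (op V))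
    (toSheafify_sheafifyLift B.smallEtaleTopology (EtShriek.lowerShriekPreι q G) ((EtCoh.push q).obj G).property)) s

theorem bcShriek_compat [LocallyOfFiniteType f] :
    bcShriek f g f' g' hc F ≫ EtShriek.lowerShriekToPush f' ((EtCoh.pull g').obj F) =
      (EtCoh.pull g).map (EtShriek.lowerShriekToPush f F) ≫ EtCoh.baseChange0 f g f' g' hc.w F := by
  apply ((EtCoh.pullPushAdj g).homEquiv _ _).injective
  rw [Adjunction.homEquiv_naturality_right, Adjunction.homEquiv_naturality_left, bcShriek, Equiv.apply_symm_apply]
  apply ObjectProperty.hom_ext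
  refine sheafify_hom_ext Y.smallEtaleTopology _ _
    ((EtCoh.push g).obj ((EtCoh.push f').obj ((EtCoh.pull g').obj F))).property ?_
  ext V s
  obtain ⟨V⟩ := V
  let L : EtShriek.lowerShriekPre f F ⟶ ((EtCoh.push g).obj ((EtShriek.lowerShriek f').obj ((EtCoh.pull g').obj F))).obj :=
    γpre f g f' g' hc F
  have hL := ConcreteCategory.congr_hom (congrArg (fun m : EtShriek.lowerShriekPre f F ⟶ _ => m.app (op V))
    (toSheafify_sheafifyLift Y.smallEtaleTopology L ((EtCoh.push g).obj _).property)) s
  refine Eq.trans (congrArg ((EtShriek.lowerShriekToPush f' ((EtCoh.pull g').obj F)).hom.app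
    (op ((EtCoh.bc g).obj V))) hL) ?_
  refine (toPush_app f' ((EtCoh.pull g').obj F) ((EtCoh.bc g).obj V)
    ⟨γ f g f' g' hc F V s.1, γ_mem f g f' g' hc F V s⟩).trans ?_
  refine Eq.trans ?_ (congrArg (((EtCoh.pullPushAdj g).homEquiv _ _ (EtCoh.baseChange0 f g f' g' hc.w F)).hom.app
    (op V)) (toPush_app f F V s)).symm
  rw [Adjunction.homEquiv_unit]
  exact (baseChange0_unit f g f' g' hc.w F V s.1).symm

end Groth.Agent.ShriekH0c
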