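import Groth.Agent.ShriekH0c.Transfer
import Groth.Agent.ShriekColim.Local
import Groth.Agent.EtH0Pair.Main
import Mathlib

/-!
Sections with proper support on a geometric fibre spread out, given a compactification over an open of the base.
-/

set_option autoImplicit false
set_option backward.isDefEq.respectTransparency false
set_option backward.isDefEq.respectTransparency.types false
set_option linter.style.haveILetI false
set_option linter.unusedSectionVars false
set_option maxHeartbeats 1000000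

universe u

open CategoryTheory CategoryTheory.Limits AlgebraicGeometry Opposite

noncomputable section

namespace Groth.Agent.ShriekH0c

open Groth.Agent.EtH0Pair

/-- monomorphisms of schemes are injective on points -/
theorem injective_of_mono {A B : Scheme.{u}} (m : A ⟶ B) [Mono m] : Function.Injective m := by
  intro x y e
  obtain ⟨p, hp, hp'⟩ := Scheme.Pullback.exists_preimage_pullback x y e
  rw [← hp, ← hp', (cancel_mono m).1 (pullback.condition (f := m) (g := m))]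

theorem mem_openPiece_range {S : Scheme.{u}} (V : S.Etale) (O : V.left.Opens) {x : V.left} (hx : x ∈ O) :
    x ∈ Set.range (openPieceHom V O).left :=
  ⟨⟨x, hx⟩, rfl⟩

/-- extension by zero of a section whose support has closed image -/
theorem exists_extend {S : Scheme.{u}} (G : EtCoh.Ab S) {U Q : S.Etale} (ω : U ⟶ Q) [Mono ω.left]
    (σ : EtCoh.sect G U) (hC : IsClosed (ω.left '' EtShriek.sectSupp G U σ)) :
    ∃ s : EtCoh.sect G Q, G.obj.map ω.op s = σ ∧ EtShriek.sectSupp G Q s ⊆ ω.left '' EtShriek.sectSupp G U σ := by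
  let O : Q.left.Opens := ⟨(ω.left '' EtShriek.sectSupp G U σ)ᶜ, hC.isOpen_compl⟩
  let Z : Bool → S.Etale := fun i => match i with
    | true => U
    | false => openPiece Q O
  let π : ∀ i, Z i ⟶ Q := fun i => match i with
    | true => ω
    | false => openPieceHom Q O
  let t : ∀ i, EtCoh.sect G (Z i) := fun i => match i with
    | true => σ
    | false => 0
  have mixed : ∀ (T : S.Etale) (a : T ⟶ U) (b : T ⟶ openPiece Q O), a ≫ ω = b ≫ openPieceHom Q O →
      G.obj.map a.op σ = 0 := fun T a b e => (EtSect.map_eq_zero_iff G σ a).mpr (by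
    rintro _ ⟨w, rfl⟩ hw
    have h := (b.left w).2
    apply h
    exact ⟨a.left w, hw, congrArg (fun m : T ⟶ Q => m.left w) e⟩)
  obtain ⟨s, hs⟩ := ShriekColim.exists_amalg G Z π (fun p => by
    by_cases hp : p ∈ O
    · exact ⟨false, mem_openPiece_range Q O hp⟩
    · obtain ⟨u, -, hu⟩ := not_not.mp hp
      exact ⟨true, ⟨u, hu⟩⟩) t (by
    intro i k T a b e
    match i, k with
    | true, true =>
      have : a = b := MorphismProperty.Over.Hom.ext ((cancel_mono ω.left).1 (congrArg (fun m : T ⟶ Q => m.left) e))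
      rw [this]
    | true, false => exact (mixed T a b e).trans (map_zero _).symm
    | false, true => exact (map_zero _).trans (mixed T b a e.symm).symm
    | false, false => exact (map_zero _).trans (map_zero _).symm)
  refine ⟨s, hs true, fun p hp => ?_⟩
  by_contra h
  exact (EtSect.mem_iff G s p).mpr ⟨_, openPieceHom Q O, mem_openPiece_range Q O h, hs false⟩ hp

section Glue

variable {W X P W' X' P' : Scheme.{u}} (ι : W ⟶ X) (j : W ⟶ P) [IsOpenImmersion ι] [IsOpenImmersion j]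
  (F : EtCoh.Ab X) (ι' : W' ⟶ X') (j' : W' ⟶ P') [IsOpenImmersion ι'] [IsOpenImmersion j']
  (a : X' ⟶ X) (b : P' ⟶ P) (c : W' ⟶ W) (ha : ι' ≫ a = c ≫ ι) (hb : j' ≫ b = c ≫ j)

/-- a section with support in the common open, seen on `P'` -/
theorem exists_transfer (t : EtCoh.sect ((EtCoh.pull a).obj F) (EtCoh.top X'))
    (hK : EtShriek.sectSupp ((EtCoh.pull a).obj F) (EtCoh.top X') t ⊆ Set.range ι') (K' : Set P') (hK'c : IsClosed K')
    (hK' : ∀ w, j' w ∈ K' ↔ ι' w ∈ EtShriek.sectSupp ((EtCoh.pull a).obj F) (EtCoh.top X') t)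
    (hK'r : K' ⊆ Set.range j') :
    ∃ τ : EtCoh.sect ((EtCoh.pull b).obj (Jsh ι j F)) (EtCoh.top P'),
      EtShriek.sectSupp ((EtCoh.pull b).obj (Jsh ι j F)) (EtCoh.top P') τ ⊆ K' ∧
      ∀ x ∈ EtShriek.sectSupp ((EtCoh.pull a).obj F) (EtCoh.top X') t,
        ∃ (E : W'.Etale) (U : X.Etale) (θ : (EtShriek.compEtale ι').obj E ⟶ (EtCoh.bc a).obj U)
          (s : EtCoh.sect F U), x ∈ Set.range ((EtShriek.compEtale ι').obj E).hom ∧
          res a F θ s = ((EtCoh.pull a).obj F).obj.map (EtH0Pair.toTopX ((EtShriek.compEtale ι').obj E)).op t ∧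
          res b (Jsh ι j F) (tr ι j ι' j' a b c ha hb θ) (sig ι j F U s) =
            ((EtCoh.pull b).obj (Jsh ι j F)).obj.map (EtH0Pair.toTopX ((EtShriek.compEtale j').obj E)).op τ := by
  let F' := (EtCoh.pull a).obj F
  let J' := (EtCoh.pull b).obj (Jsh ι j F)
  let K : Set X' := EtShriek.sectSupp F' (EtCoh.top X') t
  have hE : ∀ x : K, ∃ (E : W'.Etale) (U : X.Etale) (θ : (EtShriek.compEtale ι').obj E ⟶ (EtCoh.bc a).obj U)
      (s : EtCoh.sect F U), x.1 ∈ Set.range ((EtShriek.compEtale ι').obj E).hom ∧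
      res a F θ s = F'.obj.map (EtH0Pair.toTopX ((EtShriek.compEtale ι').obj E)).op t := by
    rintro ⟨x, hx⟩
    let σ := F'.obj.map (EtH0Pair.toTopX ((EtCoh.bc a).obj (EtCoh.top X))).op t
    let px : X' ⟶ ((EtCoh.bc a).obj (EtCoh.top X)).left :=
      pullback.lift a (𝟙 X') ((Category.comp_id _).trans (Category.id_comp _).symm)
    obtain ⟨U, s, q, hq, hqs⟩ := EtH0Pair.exists_unit_near a F σ (px x)
    let BU := (EtCoh.bc a).obj U
    let δ := F'.obj.map ((EtCoh.bc a).map (EtH0Pair.toTopX U)).op σ - unitSec a F U s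
    let G : BU.left.Opens := ⟨(EtShriek.sectSupp F' BU δ)ᶜ, (EtSect.isClosed_sectSupp F' δ).isOpen_compl⟩
    have := BU.prop
    haveI : Etale (G.ι ≫ BU.hom) := inferInstance
    haveI : Etale (pullback.snd (G.ι ≫ BU.hom) ι') := MorphismProperty.pullback_snd _ _ ‹_›
    let E : W'.Etale := Scheme.Etale.mk (pullback.snd (G.ι ≫ BU.hom) ι')
    let θ : (EtShriek.compEtale ι').obj E ⟶ BU :=
      MorphismProperty.Over.homMk (pullback.fst (G.ι ≫ BU.hom) ι' ≫ G.ι)
        ((Category.assoc _ _ _).trans pullback.condition)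
    refine ⟨E, U, θ, s, ?_, ?_⟩
    · have hqG : q ∈ G := hqs
      have hsq : BU.hom q = x := by
        have h1 := congrArg (fun z => pullback.snd (EtCoh.top X).hom a z) hq
        refine (congrArg (fun m : BU.left ⟶ X' => m q) (EtShLib.bc_map_snd a (EtH0Pair.toTopX U))).symm.trans ?_
        refine h1.trans ?_
        exact congrArg (fun m : X' ⟶ X' => m x) (pullback.lift_snd _ _ _)
      obtain ⟨w, hw⟩ := hK hx
      have e : (G.ι ≫ BU.hom) ⟨q, hqG⟩ = ι' w := by rw [hw, Scheme.Hom.comp_apply]; exact hsq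
      obtain ⟨p, -, hp⟩ := Scheme.Pullback.exists_preimage_pullback _ _ e
      exact ⟨p, (congrArg ι' hp).trans hw⟩
    · symm
      rw [← sub_eq_zero]
      refine Eq.trans ?_ ((EtSect.map_eq_zero_iff F' δ θ).mpr ?_)
      · rw [map_sub]
        refine congrArg₂ (· - ·) ?_ rfl
        change _ = F'.obj.map θ.op (F'.obj.map _ (F'.obj.map _ t))
        rw [map_map', map_map']
        exact congrArg (fun m : (EtShriek.compEtale ι').obj E ⟶ EtCoh.top X' => F'.obj.map m.op t) (hom_top_eq _ _)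
      · rintro _ ⟨w, rfl⟩
        exact (pullback.fst (G.ι ≫ BU.hom) ι' w).2
  choose E U θ s hxE hts using hE
  let Oc : (EtCoh.top P').left.Opens := ⟨K'ᶜ, hK'c.isOpen_compl⟩
  let Z : Option K → P'.Etale := fun i => match i with
    | some x => (EtShriek.compEtale j').obj (E x)
    | none => openPiece (EtCoh.top P') Oc
  let π : ∀ i, Z i ⟶ EtCoh.top P' := fun i => EtH0Pair.toTopX (Z i)
  let r : ∀ i, EtCoh.sect J' (Z i) := fun i => match i with
    | some x => res b (Jsh ι j F) (tr ι j ι' j' a b c ha hb (θ x)) (sig ι j F (U x) (s x))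
    | none => 0
  have mixed : ∀ (x : K) (T : P'.Etale) (e₁ : T ⟶ Z (some x)) (_ : T ⟶ Z none),
      J'.obj.map e₁.op (r (some x)) = 0 := by
    intro x T e₁ e₂
    refine (EtSect.map_eq_zero_iff J' (r (some x)) e₁).mpr ?_
    rintro _ ⟨u, rfl⟩ hu
    have hnot : j' ((E x).hom (e₁.left u)) ∉ K' := by
      have h := (e₂.left u).2
      have e : (openPiece (EtCoh.top P') Oc).hom (e₂.left u) = (Z (some x)).hom (e₁.left u) := by
        have h1 := congrArg (fun m : T.left ⟶ P' => m u) (MorphismProperty.Over.w e₁)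
        have h2 := congrArg (fun m : T.left ⟶ P' => m u) (MorphismProperty.Over.w e₂)
        exact h2.trans h1.symm
      intro hK1
      exact h (show _ ∈ K' from (e.symm ▸ hK1 :))
    rw [hK'] at hnot
    let El : (E x).left.Opens := ⟨(E x).hom ⁻¹' (ι' ⁻¹' Kᶜ),
      ((EtSect.isClosed_sectSupp F' t).isOpen_compl.preimage ι'.continuous).preimage (E x).hom.continuous⟩
    have hel : e₁.left u ∈ El := hnot
    let φ := openPieceHom (E x) El
    have h0 : res a F ((EtShriek.compEtale ι').map φ ≫ θ x) (s x) = 0 := by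
      rw [← map_res, hts, map_map']
      refine (EtSect.map_eq_zero_iff F' t _).mpr ?_
      rintro _ ⟨y, rfl⟩
      exact y.2
    rw [res_eq_zero_iff_tr ι j F ι' j' a b c ha hb, ← tr_comp, ← map_res] at h0
    exact ((EtSect.map_eq_zero_iff J' (r (some x)) ((EtShriek.compEtale j').map φ)).mp h0) ⟨⟨_, hel⟩, rfl⟩ hu
  obtain ⟨τ, hτ⟩ := ShriekColim.exists_amalg J' Z π (fun p => by
    by_cases hp : p ∈ Oc
    · exact ⟨none, ⟨⟨p, hp⟩, rfl⟩⟩
    · obtain ⟨w, rfl⟩ := hK'r (not_not.mp hp)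
      have hx := (hK' w).mp (not_not.mp hp)
      obtain ⟨z, hz⟩ := hxE ⟨_, hx⟩
      refine ⟨some ⟨_, hx⟩, z, ?_⟩
      exact congrArg j' (ι'.isOpenEmbedding.injective hz)) r (by
    intro i k T e₁ e₂ _
    match i, k with
    | none, none => exact (map_zero _).trans (map_zero _).symm
    | some x, none => exact (mixed x T e₁ e₂).trans (map_zero _).symm
    | none, some x => exact (map_zero _).trans (mixed x T e₂ e₁).symm
    | some x, some y =>
      haveI : Etale e₁.left := EtSect.etale_left e₁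
      have := (E x).prop
      let el : T.left ⟶ (E x).left := e₁.left
      haveI : Etale el := ‹Etale e₁.left›
      let E' : W'.Etale := Scheme.Etale.mk (el ≫ (E x).hom)
      let φ₁ : E' ⟶ E x := MorphismProperty.Over.homMk el rfl
      have hw₂ : e₂.left ≫ (E y).hom = el ≫ (E x).hom := by
        apply (cancel_mono j').1
        exact (Category.assoc _ _ _).trans ((MorphismProperty.Over.w e₂).trans
          ((MorphismProperty.Over.w e₁).symm.trans (Category.assoc _ _ _).symm))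
      let φ₂ : E' ⟶ E y := MorphismProperty.Over.homMk e₂.left hw₂
      let h : (EtShriek.compEtale j').obj E' ≅ T := MorphismProperty.Over.isoMk (Iso.refl _)
        ((Category.id_comp _).trans ((MorphismProperty.Over.w e₁).symm.trans (Category.assoc _ _ _).symm))
      have h₁ : h.hom ≫ e₁ = (EtShriek.compEtale j').map φ₁ := MorphismProperty.Over.Hom.ext (Category.id_comp _)
      have h₂ : h.hom ≫ e₂ = (EtShriek.compEtale j').map φ₂ := MorphismProperty.Over.Hom.ext (Category.id_comp _)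
      apply (ConcreteCategory.bijective_of_isIso (J'.obj.map h.hom.op)).1
      rw [map_map', map_map', h₁, h₂]
      change J'.obj.map _ (res b _ _ _) = J'.obj.map _ (res b _ _ _)
      rw [map_res, map_res, tr_comp, tr_comp, ← res_eq_iff_tr ι j F ι' j' a b c ha hb, ← map_res, ← map_res, hts,
        hts, map_map', map_map']
      exact congrArg (fun m : (EtShriek.compEtale ι').obj E' ⟶ EtCoh.top X' => F'.obj.map m.op t) (hom_top_eq _ _))
  refine ⟨τ, fun p hp => ?_, fun x hx => ⟨E ⟨x, hx⟩, U ⟨x, hx⟩, θ ⟨x, hx⟩, s ⟨x, hx⟩, hxE ⟨x, hx⟩, hts ⟨x, hx⟩,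
    (hτ (some ⟨x, hx⟩)).symm⟩⟩
  by_contra h
  exact (EtSect.mem_iff J' τ p).mpr ⟨_, π none, ⟨⟨p, h⟩, rfl⟩, hτ none⟩ hp

end Glue

section Extend

variable {W X P B Y : Scheme.{u}} (f : X ⟶ Y) [IsSeparated f] [LocallyOfFiniteType f] (ι : W ⟶ X) (j : W ⟶ P)
  [IsOpenImmersion ι] [IsOpenImmersion j] (pb : P ⟶ B) [IsProper pb] (i₀ : B ⟶ Y) [IsOpenImmersion i₀]
  (hcm : j ≫ pb ≫ i₀ = ι ≫ f) (F : EtCoh.Ab X)

include hcm in
theorem exists_shriek_extend (V₁ : B.Etale) (σ : EtCoh.sect (Jsh ι j F) ((EtCoh.bc pb).obj V₁))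
    (hZ : ∀ p ∈ EtShriek.sectSupp (Jsh ι j F) ((EtCoh.bc pb).obj V₁) σ, pullback.snd V₁.hom pb p ∈ Set.range j) :
    ∃ (ω : (Ξ ι j).obj ((EtCoh.bc pb).obj V₁) ⟶ (EtCoh.bc f).obj ((EtShriek.compEtale i₀).obj V₁))
      (_ : Mono ω.left)
      (s : EtShriek.shriekSubgroup f F ((EtShriek.compEtale i₀).obj V₁)),
      ω.left ≫ pullback.fst ((EtShriek.compEtale i₀).obj V₁).hom f =
        pullback.fst ((EtCoh.bc pb).obj V₁).hom j ≫ pullback.fst V₁.hom pb ≫ 𝟙 V₁.left ∧
      F.obj.map ω.op s.1 = σ ∧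
      EtShriek.sectSupp F _ s.1 ⊆
        ω.left '' EtShriek.sectSupp F ((Ξ ι j).obj ((EtCoh.bc pb).obj V₁)) σ := by
  let P₁ := (EtCoh.bc pb).obj V₁
  let V : Y.Etale := (EtShriek.compEtale i₀).obj V₁
  let U₁ : X.Etale := (Ξ ι j).obj P₁
  let prW : U₁.left ⟶ W := pullback.snd P₁.hom j
  let prP : U₁.left ⟶ P₁.left := pullback.fst P₁.hom j
  let pV : P₁.left ⟶ V₁.left := pullback.fst V₁.hom pb
  have hcond : prP ≫ P₁.hom = prW ≫ j := pullback.condition
  have hω : (prP ≫ pV) ≫ V₁.hom ≫ i₀ = (prW ≫ ι) ≫ f := by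
    rw [Category.assoc, Category.assoc, ← hcm, reassoc_of% (pullback.condition : pV ≫ V₁.hom = _ ≫ pb)]
    exact (reassoc_of% hcond) (pb ≫ i₀)
  let ω : U₁ ⟶ (EtCoh.bc f).obj V := EtShLib.mkδ (T := U₁) (o := V) f (prP ≫ pV) hω
  have hω1 : ω.left ≫ pullback.fst V.hom f = prP ≫ pV := EtShLib.mkδ_fst _ _ _
  have hω2 : ω.left ≫ pullback.snd V.hom f = prW ≫ ι := MorphismProperty.Over.w ω
  haveI : Mono ω.left := ⟨fun {T} g h e => by
    have e1 : (g ≫ prP) ≫ pV = (h ≫ prP) ≫ pV := by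
      have := congrArg (· ≫ pullback.fst V.hom f) e
      simp only [Category.assoc] at this ⊢
      rwa [hω1] at this
    have e2 : g ≫ prW = h ≫ prW := by
      have := congrArg (· ≫ pullback.snd V.hom f) e
      simp only [Category.assoc] at this
      rw [hω2] at this
      apply (cancel_mono ι).1
      simpa only [Category.assoc] using this
    refine pullback.hom_ext ?_ e2
    refine pullback.hom_ext e1 ?_
    refine (Category.assoc _ _ _).trans ((congrArg (g ≫ ·) hcond).trans ?_)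
    refine Eq.trans ?_ ((congrArg (h ≫ ·) hcond).symm.trans (Category.assoc _ _ _).symm)
    rw [reassoc_of% e2]⟩
  obtain hZc : IsClosed (EtShriek.sectSupp (Jsh ι j F) P₁ σ) := EtSect.isClosed_sectSupp _ σ
  let zι := ClSubLib.redι _ hZc
  let lz := IsOpenImmersion.lift (pullback.fst P₁.hom j) zι (by
    rw [ClSubLib.range_redι, Scheme.Pullback.range_fst]
    exact fun p hp => hZ p hp)
  have hlz : lz ≫ pullback.fst P₁.hom j = zι := IsOpenImmersion.lift_fac _ _ _
  let σX : EtCoh.sect F U₁ := σ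
  have hCeq : ω.left '' EtShriek.sectSupp F U₁ σX = Set.range (lz ≫ ω.left) := by
    rw [show ⇑(lz ≫ ω.left) = ω.left ∘ lz from funext fun x => Scheme.Hom.comp_apply _ _ x, Set.range_comp]
    congr 1
    ext w
    rw [← mem_supp_push_iff ι j F σ w]
    constructor
    · intro hw
      obtain ⟨z, hz⟩ := (ClSubLib.range_redι _ hZc).ge hw
      refine ⟨z, (pullback.fst P₁.hom j).isOpenEmbedding.injective ?_⟩
      rw [← Scheme.Hom.comp_apply, hlz]
      exact hz
    · rintro ⟨z, rfl⟩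
      rw [← Scheme.Hom.comp_apply, hlz]
      exact (ClSubLib.range_redι _ hZc).le ⟨z, rfl⟩
  haveI : IsProper pV := MorphismProperty.pullback_fst _ _ ‹_›
  haveI : LocallyOfFiniteType (EtShriek.prV f V) := MorphismProperty.pullback_fst _ _ ‹_›
  haveI : IsSeparated (EtShriek.prV f V) := MorphismProperty.pullback_fst _ _ ‹_›
  have hpr : (lz ≫ ω.left) ≫ EtShriek.prV f V = zι ≫ pV := by
    rw [Category.assoc]
    exact (congrArg (lz ≫ ·) hω1).trans ((Category.assoc _ _ _).symm.trans (congrArg (· ≫ pV) hlz))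
  haveI : IsProper ((lz ≫ ω.left) ≫ EtShriek.prV f V) := by
    rw [hpr]
    exact inferInstance
  haveI : IsProper (lz ≫ ω.left) := IsProper.of_comp (lz ≫ ω.left) (EtShriek.prV f V)
  have hCp := ClSubLib.isProperOver_range (EtShriek.prV f V) (lz ≫ ω.left)
  rw [← hCeq] at hCp
  obtain ⟨s, hsω, hsC⟩ := exists_extend F ω σX hCp.choose
  refine ⟨ω, inferInstance, ⟨s, (ShriekLQF.mem_shriekSubgroup_iff F f V s).mpr
    (ClSubLib.mono hCp (EtSect.isClosed_sectSupp F s) hsC)⟩, ?_, hsω, hsC⟩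
  exact hω1.trans ((Category.assoc _ _ _).symm.trans (Category.comp_id _)).symm

end Extend

theorem comp_bc_fst {Z X : Scheme.{u}} (a : Z ⟶ X) {T : Z.Etale} {U U' : X.Etale} (x : T ⟶ (EtCoh.bc a).obj U)
    (g : U ⟶ U') {m : T.left ⟶ U.left} (hm : x.left ≫ pullback.fst U.hom a = m) :
    (x ≫ (EtCoh.bc a).map g).left ≫ pullback.fst U'.hom a = m ≫ g.left := by
  subst hm
  exact (Category.assoc _ _ _).trans ((congrArg (x.left ≫ ·) (EtShLib.bc_map_fst a g)).trans (Category.assoc _ _ _).symm)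

theorem toTop_δF_fst {X Y : Scheme.{u}} (f : X ⟶ Y) {Ω : Type u} [Field Ω] (η : Spec (CommRingCat.of Ω) ⟶ Y)
    {V : Y.Etale} (v : Over.mk η ⟶ (Scheme.Etale.forget Y).obj V) (T : (pullback f η).Etale) :
    (EtH0Pair.toTopX T ≫ δF f η v).left ≫ pullback.fst ((EtCoh.bc f).obj V).hom (pullback.fst f η) =
      T.hom ≫ fib f η v :=
  (Category.assoc _ _ _).trans (congrArg (T.hom ≫ ·) (EtShLib.mkδ_fst (T := EtCoh.top (pullback f η))
    (o := (EtCoh.bc f).obj V) (pullback.fst f η) (fib f η v) ((fib_snd f η v).trans (Category.id_comp _).symm)))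

section Compare

variable {W X P B Y : Scheme.{u}} (f : X ⟶ Y) (ι : W ⟶ X) (j : W ⟶ P) [IsOpenImmersion ι] [IsOpenImmersion j]
  (pb : P ⟶ B) {Ω : Type u} [Field Ω] [IsSepClosed Ω] (η : Spec (CommRingCat.of Ω) ⟶ Y)
  (η₀ : Spec (CommRingCat.of Ω) ⟶ B) (j' : pullback (pullback.fst f η) ι ⟶ pullback pb η₀) [IsOpenImmersion j']
  (hb : j' ≫ pullback.fst pb η₀ = pullback.snd (pullback.fst f η) ι ≫ j)
  (hq : j' ≫ pullback.snd pb η₀ = pullback.fst (pullback.fst f η) ι ≫ pullback.snd f η)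
  (F : EtCoh.Ab X) {V₁ : B.Etale} (v₁ : Over.mk η₀ ⟶ (Scheme.Etale.forget B).obj V₁)
  {V : Y.Etale} (v : Over.mk η ⟶ (Scheme.Etale.forget Y).obj V) (k : V₁.left ⟶ V.left)
  (hv : v₁.left ≫ k = v.left)

include hq hv in
theorem ρ_eq_of_transfer (t : EtCoh.sect ((EtCoh.pull (pullback.fst f η)).obj F) (EtCoh.top (pullback f η)))
    (K' : Set ↥(pullback pb η₀))
    (hK' : ∀ w, j' w ∈ K' ↔ pullback.fst (pullback.fst f η) ι w ∈
      EtShriek.sectSupp ((EtCoh.pull (pullback.fst f η)).obj F) (EtCoh.top (pullback f η)) t)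
    (τ : EtCoh.sect ((EtCoh.pull (pullback.fst pb η₀)).obj (Jsh ι j F)) (EtCoh.top (pullback pb η₀)))
    (hτK : EtShriek.sectSupp ((EtCoh.pull (pullback.fst pb η₀)).obj (Jsh ι j F)) (EtCoh.top (pullback pb η₀)) τ ⊆ K')
    (hτE : ∀ x ∈ EtShriek.sectSupp ((EtCoh.pull (pullback.fst f η)).obj F) (EtCoh.top (pullback f η)) t,
        ∃ (E : (pullback (pullback.fst f η) ι).Etale) (U : X.Etale)
          (θ : (EtShriek.compEtale (pullback.fst (pullback.fst f η) ι)).obj E ⟶ (EtCoh.bc (pullback.fst f η)).obj U)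
          (s : EtCoh.sect F U),
          x ∈ Set.range ((EtShriek.compEtale (pullback.fst (pullback.fst f η) ι)).obj E).hom ∧
          res (pullback.fst f η) F θ s = ((EtCoh.pull (pullback.fst f η)).obj F).obj.map
            (EtH0Pair.toTopX ((EtShriek.compEtale (pullback.fst (pullback.fst f η) ι)).obj E)).op t ∧
          res (pullback.fst pb η₀) (Jsh ι j F)
              (tr ι j (pullback.fst (pullback.fst f η) ι) j' (pullback.fst f η) (pullback.fst pb η₀)
                (pullback.snd (pullback.fst f η) ι) pullback.condition hb θ) (sig ι j F U s) =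
            ((EtCoh.pull (pullback.fst pb η₀)).obj (Jsh ι j F)).obj.map
              (EtH0Pair.toTopX ((EtShriek.compEtale j').obj E)).op τ)
    (σ : EtCoh.sect (Jsh ι j F) ((EtCoh.bc pb).obj V₁)) (hσ : ρ pb η₀ v₁ (Jsh ι j F) σ = τ)
    (ω : (Ξ ι j).obj ((EtCoh.bc pb).obj V₁) ⟶ (EtCoh.bc f).obj V) [Mono ω.left]
    (hω1 : ω.left ≫ pullback.fst V.hom f =
      pullback.fst ((EtCoh.bc pb).obj V₁).hom j ≫ pullback.fst V₁.hom pb ≫ k)
    (s : EtCoh.sect F ((EtCoh.bc f).obj V)) (hsω : F.obj.map ω.op s = σ)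
    (hsC : EtShriek.sectSupp F _ s ⊆
      ω.left '' EtShriek.sectSupp F ((Ξ ι j).obj ((EtCoh.bc pb).obj V₁)) σ) :
    ρ f η v F s = t := by
  let a := pullback.fst f η
  let b := pullback.fst pb η₀
  let ι' := pullback.fst a ι
  let c := pullback.snd a ι
  have ha : ι' ≫ a = c ≫ ι := pullback.condition
  let P₁ := (EtCoh.bc pb).obj V₁
  let U₁ : X.Etale := (Ξ ι j).obj P₁
  let prW : U₁.left ⟶ W := pullback.snd P₁.hom j
  let prP : U₁.left ⟶ P₁.left := pullback.fst P₁.hom j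
  let σX : EtCoh.sect F U₁ := σ
  have hcond : prP ≫ P₁.hom = prW ≫ j := pullback.condition
  have hω2 : ω.left ≫ pullback.snd V.hom f = prW ≫ ι := MorphismProperty.Over.w ω
  rw [← sub_eq_zero]
  refine EtSect.eq_zero_of_cover _ _ fun x => ?_
  let F' := (EtCoh.pull a).obj F
  let μ : pullback a ι ⟶ U₁.left := pullback.lift (j' ≫ fib pb η₀ v₁) c (by
    rw [Category.assoc]
    refine (congrArg (j' ≫ ·) (fib_snd pb η₀ v₁)).trans ?_
    exact hb)
  have hμω : μ ≫ ω.left = ι' ≫ fib f η v := by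
    apply pullback.hom_ext
    · rw [Category.assoc, Category.assoc, hω1, fib_fst, ← hv, ← Category.assoc, ← Category.assoc,
        pullback.lift_fst]
      simp only [Category.assoc]
      rw [reassoc_of% (fib_fst pb η₀ v₁), reassoc_of% hq]
    · rw [Category.assoc, Category.assoc, hω2, fib_snd, ← Category.assoc, pullback.lift_snd]
      exact ha.symm
  by_cases hx : x ∈ EtShriek.sectSupp F' (EtCoh.top (pullback f η)) t
  · obtain ⟨E, U, θ, s', hxE, hθt, hθτ⟩ := hτE x hx
    refine ⟨_, EtH0Pair.toTopX ((EtShriek.compEtale ι').obj E), hxE, ?_⟩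
    rw [map_sub, sub_eq_zero, ← hθt]
    let θ₂ : (EtShriek.compEtale ι').obj E ⟶ (EtCoh.bc a).obj U₁ :=
      EtShLib.mkδ (T := (EtShriek.compEtale ι').obj E) (o := U₁) a (E.hom ≫ μ) (by
        refine (Category.assoc _ _ _).trans ((congrArg (E.hom ≫ ·) ?_).trans (Category.assoc _ _ _).symm)
        refine Eq.trans ?_ ha.symm
        exact (Category.assoc _ _ _).symm.trans (congrArg (· ≫ ι) (pullback.lift_snd _ _ _)))
    have hθ₂ : θ₂.left ≫ pullback.fst U₁.hom a = E.hom ≫ μ := EtShLib.mkδ_fst _ _ _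
    have e1 : EtH0Pair.toTopX ((EtShriek.compEtale ι').obj E) ≫ δF f η v = θ₂ ≫ (EtCoh.bc a).map ω := by
      refine EtShLib.bc_ext _ ?_
      refine (toTop_δF_fst f η v _).trans (Eq.trans ?_ (comp_bc_fst a θ₂ ω hθ₂).symm)
      exact (Category.assoc _ _ _).trans ((congrArg (E.hom ≫ ·) hμω.symm).trans (Category.assoc _ _ _).symm)
    refine (map_res _ F _ _ s).trans ?_
    rw [e1, ← res_map, hsω, res_eq_iff_tr ι j F ι' j' a b c ha hb, hθτ]
    let γ : (Ψ ι j).obj U₁ ⟶ P₁ := MorphismProperty.Over.homMk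
      (pullback.fst U₁.hom ι ≫ prP) (by
        refine (Category.assoc _ _ _).trans ((congrArg (_ ≫ ·) hcond).trans ?_)
        refine (Category.assoc _ _ _).symm.trans (congrArg (· ≫ j) ?_)
        apply (cancel_mono ι).1
        exact (Category.assoc _ _ _).trans pullback.condition)
    have eγ : (Ξ ι j).map γ = ε ι j U₁ := by
      refine MorphismProperty.Over.Hom.ext ?_
      change ((EtCoh.bc j).map γ).left = _ ≫ _
      apply pullback.hom_ext
      · exact (EtShLib.bc_map_fst j γ).trans ((Category.assoc _ _ _).symm)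
      · refine (EtShLib.bc_map_snd j γ).trans ?_
        apply (cancel_mono ι).1
        exact ((MorphismProperty.Over.w (ε ι j U₁)).symm.trans (Category.assoc _ _ _).symm)
    have hsig : sig ι j F U₁ σX = (Jsh ι j F).obj.map γ.op σ := by
      change F.obj.map (ε ι j U₁).op σX = F.obj.map ((Ξ ι j).map γ).op σX
      rw [eγ]
    rw [hsig, res_map, ← hσ]
    refine Eq.trans ?_ (map_res _ _ _ _ σ).symm
    suffices e : tr ι j ι' j' a b c ha hb θ₂ ≫ (EtCoh.bc b).map γ =
        EtH0Pair.toTopX ((EtShriek.compEtale j').obj E) ≫ δF pb η₀ v₁ by rw [e]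
    refine EtShLib.bc_ext _ ?_
    refine (comp_bc_fst b _ γ (tr_fst ι j ι' j' a b c ha hb θ₂)).trans (Eq.trans ?_ (toTop_δF_fst pb η₀ v₁ ((EtShriek.compEtale j').obj E)).symm)
    change trLeft ι j ι' a c ha θ₂ ≫ pullback.fst U₁.hom ι ≫ prP = (E.hom ≫ j') ≫ fib pb η₀ v₁
    refine (Category.assoc _ _ _).symm.trans ?_
    refine (congrArg (· ≫ prP) ((pullback.lift_fst _ _ _).trans hθ₂)).trans ?_
    refine (Category.assoc _ _ _).trans ?_
    refine (congrArg (E.hom ≫ ·) (pullback.lift_fst _ _ _)).trans ?_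
    exact (Category.assoc _ _ _).symm
  · have hns : x ∉ EtShriek.sectSupp F' (EtCoh.top (pullback f η)) (ρ f η v F s) := by
      rw [sectSupp_ρ]
      intro hxs
      obtain ⟨w, hw, hwx⟩ := hsC hxs
      have hax : a x ∈ Set.range ι := by
        refine ⟨prW w, ?_⟩
        rw [← Scheme.Hom.comp_apply, ← hω2, Scheme.Hom.comp_apply, hwx, ← Scheme.Hom.comp_apply, fib_snd]
      obtain ⟨y, hy⟩ := hax
      obtain ⟨w', rfl, -⟩ := Scheme.Pullback.exists_preimage_pullback x y hy.symm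
      have : w = μ w' := injective_of_mono ω.left (by
        rw [hwx, ← Scheme.Hom.comp_apply μ, hμω, Scheme.Hom.comp_apply]
        rfl)
      subst this
      rw [← mem_supp_push_iff ι j F σ] at hw
      have hμP : μ ≫ prP = j' ≫ fib pb η₀ v₁ := pullback.lift_fst _ _ _
      have h1 : fib pb η₀ v₁ (j' w') ∈ EtShriek.sectSupp (Jsh ι j F) P₁ σ := by
        rw [← Scheme.Hom.comp_apply, ← hμP, Scheme.Hom.comp_apply]
        exact hw
      have h2 : j' w' ∈ EtShriek.sectSupp ((EtCoh.pull b).obj (Jsh ι j F)) (EtCoh.top (pullback pb η₀)) τ := by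
        rw [← hσ, sectSupp_ρ]
        exact h1
      exact hx ((hK' w').mp (hτK h2))
    obtain ⟨T₁, g₁, hg₁, hz₁⟩ := (EtSect.mem_iff F' _ x).mp hns
    obtain ⟨T₂, g₂, hg₂, hz₂⟩ := (EtSect.mem_iff F' t x).mp hx
    obtain ⟨T, e₁, e₂, he, hT⟩ := EtSect.exists_pullback g₁ g₂
    obtain ⟨u₁, hu₁⟩ := hg₁
    obtain ⟨u₂, hu₂⟩ := hg₂
    obtain ⟨p, hp⟩ := hT u₁ u₂ (hu₁.trans hu₂.symm)
    refine ⟨T, e₁ ≫ g₁, ⟨p, ?_⟩, ?_⟩
    · change g₁.left (e₁.left p) = x
      rw [hp, hu₁]
    · rw [map_sub, ← map_map', hz₁, map_zero, he, ← map_map', hz₂, map_zero, sub_zero]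

end Compare

/-- spreading out a section with proper support on a geometric fibre -/
theorem exists_spread {W X P B Y : Scheme.{u}} (f : X ⟶ Y) [IsSeparated f] [LocallyOfFiniteType f] (ι : W ⟶ X) (j : W ⟶ P)
    [IsOpenImmersion ι] [IsOpenImmersion j] (pb : P ⟶ B) [IsProper pb] (i₀ : B ⟶ Y) [IsOpenImmersion i₀]
    (hcm : j ≫ pb ≫ i₀ = ι ≫ f) {Ω : Type u} [Field Ω] [IsSepClosed Ω] (η : Spec (CommRingCat.of Ω) ⟶ Y)
    (η₀ : Spec (CommRingCat.of Ω) ⟶ B) (hη : η₀ ≫ i₀ = η) (F : EtCoh.Ab X)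
    (t : EtCoh.sect ((EtCoh.pull (pullback.fst f η)).obj F) (EtCoh.top (pullback f η)))
    (ht : ClSub.IsProperOver (pullback.snd f η)
      (EtShriek.sectSupp ((EtCoh.pull (pullback.fst f η)).obj F) (EtCoh.top (pullback f η)) t))
    (hW : ∀ x ∈ EtShriek.sectSupp ((EtCoh.pull (pullback.fst f η)).obj F) (EtCoh.top (pullback f η)) t,
      pullback.fst f η x ∈ Set.range ι) :
    ∃ (V : Y.Etale) (v : Over.mk η ⟶ (Scheme.Etale.forget Y).obj V) (s : EtShriek.shriekSubgroup f F V),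
      ρ f η v F s.1 = t := by
  let a := pullback.fst f η
  let q := pullback.snd f η
  let b := pullback.fst pb η₀
  let q₀ := pullback.snd pb η₀
  let ι' := pullback.fst a ι
  let c := pullback.snd a ι
  have ha : ι' ≫ a = c ≫ ι := pullback.condition
  have hj : (c ≫ j) ≫ pb = (ι' ≫ q) ≫ η₀ := by
    rw [← cancel_mono i₀]
    simp only [Category.assoc]
    rw [hcm, hη, ← reassoc_of% ha]
    exact congrArg (ι' ≫ ·) pullback.condition
  let j' : pullback a ι ⟶ pullback pb η₀ := pullback.lift (c ≫ j) (ι' ≫ q) hj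
  have hb : j' ≫ b = c ≫ j := pullback.lift_fst _ _ _
  have hq : j' ≫ q₀ = ι' ≫ q := pullback.lift_snd _ _ _
  haveI : IsOpenImmersion j' := by
    have h1 : IsPullback c (ι' ≫ q) (ι ≫ f) η :=
      (IsPullback.of_hasPullback a ι).flip.paste_vert (IsPullback.of_hasPullback f η)
    have h2 : IsPullback c (ι' ≫ q) (j ≫ pb) η₀ := by
      refine IsPullback.of_isLimit' ⟨(Category.assoc _ _ _).symm.trans hj⟩ (PullbackCone.IsLimit.mk _
        (fun s => h1.lift s.fst s.snd (by
          have hc := congrArg (· ≫ i₀) s.condition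
          simp only [Category.assoc] at hc
          rw [← hcm, ← hη]
          exact hc))
        (fun s => h1.lift_fst _ _ _) (fun s => h1.lift_snd _ _ _)
        (fun s m m1 m2 => h1.hom_ext (m1.trans (h1.lift_fst _ _ _).symm) (m2.trans (h1.lift_snd _ _ _).symm)))
    exact MorphismProperty.of_isPullback (P := @IsOpenImmersion)
      (IsPullback.of_bot (by rw [hq]; exact h2) hb.symm (IsPullback.of_hasPullback pb η₀)) ‹_›
  obtain ⟨hKc, hKp⟩ := ht
  let kι := ClSubLib.redι _ hKc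
  haveI : IsProper (kι ≫ q) := hKp
  have hKr : ∀ x ∈ EtShriek.sectSupp ((EtCoh.pull a).obj F) (EtCoh.top (pullback f η)) t, x ∈ Set.range ι' := by
    intro x hx
    obtain ⟨w, hw⟩ := hW x hx
    obtain ⟨p, hp, -⟩ := Scheme.Pullback.exists_preimage_pullback x w hw.symm
    exact ⟨p, hp⟩
  let l := IsOpenImmersion.lift ι' kι (by rw [ClSubLib.range_redι]; exact hKr)
  have hl : l ≫ ι' = kι := IsOpenImmersion.lift_fac _ _ _
  haveI : IsProper ((l ≫ j') ≫ q₀) := by
    rw [Category.assoc, hq, ← Category.assoc, hl]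
    infer_instance
  haveI : IsProper (l ≫ j') := IsProper.of_comp (l ≫ j') q₀
  let K' : Set ↥(pullback pb η₀) := Set.range (l ≫ j')
  have hK' : ∀ w, j' w ∈ K' ↔ ι' w ∈ EtShriek.sectSupp ((EtCoh.pull a).obj F) (EtCoh.top (pullback f η)) t := by
    intro w
    have hr := ClSubLib.range_redι _ hKc
    constructor
    · rintro ⟨z, hz⟩
      rw [Scheme.Hom.comp_apply] at hz
      rw [← j'.isOpenEmbedding.injective hz, ← Scheme.Hom.comp_apply, hl]
      exact hr.le ⟨z, rfl⟩
    · intro hw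
      obtain ⟨z, hz⟩ := hr.ge hw
      refine ⟨z, ?_⟩
      rw [Scheme.Hom.comp_apply, ι'.isOpenEmbedding.injective (a₁ := l z) (a₂ := w)]
      rw [← Scheme.Hom.comp_apply, hl]
      exact hz
  obtain ⟨τ, hτK, hτE⟩ := exists_transfer ι j F ι' j' a b c ha hb t hKr K' (l ≫ j').isClosedMap.isClosed_range hK'
    (by rintro _ ⟨z, rfl⟩; exact ⟨l z, (Scheme.Hom.comp_apply _ _ _).symm⟩)
  obtain ⟨V₀, v₀, σ₀, hσ₀⟩ := exists_ρ_eq pb η₀ (Jsh ι j F) τ
  -- shrink the neighbourhood so that the support lies over the open subscheme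
  let P₀ := (EtCoh.bc pb).obj V₀
  let bad : Set P₀.left := EtShriek.sectSupp (Jsh ι j F) P₀ σ₀ ∩ (pullback.snd V₀.hom pb ⁻¹' (Set.range j)ᶜ)
  have hbad : IsClosed bad :=
    (EtSect.isClosed_sectSupp (Jsh ι j F) σ₀).inter (j.isOpenEmbedding.isOpen_range.isClosed_compl.preimage (pullback.snd V₀.hom pb).continuous)
  haveI : IsProper (EtShriek.prV pb V₀) := MorphismProperty.pullback_fst _ _ ‹_›
  let O : V₀.left.Opens := ⟨(EtShriek.prV pb V₀ '' bad)ᶜ, ((EtShriek.prV pb V₀).isClosedMap _ hbad).isOpen_compl⟩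
  have hO : v₀.left (default : Spec (CommRingCat.of Ω)) ∈ O := by
    rintro ⟨y, ⟨hy, hy'⟩, hyv⟩
    obtain ⟨x, rfl⟩ := exists_fib_eq pb η₀ v₀ y hyv
    have h0 : x ∈ EtShriek.sectSupp ((EtCoh.pull b).obj (Jsh ι j F)) (EtCoh.top (pullback pb η₀)) τ := by
      rw [← hσ₀, sectSupp_ρ]
      exact hy
    obtain ⟨z, rfl⟩ := hτK h0
    apply hy'
    refine ⟨c (l z), ?_⟩
    refine Eq.trans ?_ (congrArg (fun m : pullback pb η₀ ⟶ P => m ((l ≫ j') z)) (fib_snd pb η₀ v₀)).symm
    change j (c (l z)) = b ((l ≫ j') z)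
    rw [Scheme.Hom.comp_apply, ← Scheme.Hom.comp_apply j' b, hb, Scheme.Hom.comp_apply]
  let V₁ : B.Etale := openPiece V₀ O
  let φ : V₁ ⟶ V₀ := openPieceHom V₀ O
  let vl : Spec (CommRingCat.of Ω) ⟶ O.toScheme := IsOpenImmersion.lift O.ι v₀.left (by
    rintro _ ⟨x, rfl⟩
    rw [Scheme.Opens.range_ι, Subsingleton.elim (α := Spec (CommRingCat.of Ω)) x default]
    exact hO)
  let v₁ : Over.mk η₀ ⟶ (Scheme.Etale.forget B).obj V₁ := Over.homMk vl (by
    change vl ≫ O.ι ≫ V₀.hom = η₀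
    rw [IsOpenImmersion.lift_fac_assoc]
    exact Over.w v₀)
  have hv₁ : v₁ ≫ (Scheme.Etale.forget B).map φ = v₀ := Over.OverMorphism.ext (IsOpenImmersion.lift_fac _ _ _)
  let P₁ := (EtCoh.bc pb).obj V₁
  let σ : EtCoh.sect (Jsh ι j F) P₁ := (Jsh ι j F).obj.map ((EtCoh.bc pb).map φ).op σ₀
  have hσ : ρ pb η₀ v₁ (Jsh ι j F) σ = τ := (ρ_map pb η₀ v₀ _ φ v₁ hv₁ σ₀).trans hσ₀
  have hZ : ∀ p ∈ EtShriek.sectSupp (Jsh ι j F) P₁ σ, pullback.snd V₁.hom pb p ∈ Set.range j := by
    intro p hp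
    rw [ShriekLQF.sectSupp_map] at hp
    by_contra h
    refine (pullback.fst V₁.hom pb p).2 ⟨_, ⟨hp, ?_⟩, ?_⟩
    · intro h'
      apply h
      exact ((congrArg (fun m : P₁.left ⟶ P => m p) (EtShLib.bc_map_snd pb φ)).symm ▸ h' :)
    · exact congrArg (fun m : P₁.left ⟶ V₀.left => m p) (EtShLib.bc_map_fst pb φ)
  -- the section over `X ×_Y V₁`
  let V : Y.Etale := (EtShriek.compEtale i₀).obj V₁
  let v : Over.mk η ⟶ (Scheme.Etale.forget Y).obj V := Over.homMk vl (by
    change vl ≫ (O.ι ≫ V₀.hom) ≫ i₀ = η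
    rw [← Category.assoc, ← hη]
    exact congrArg (· ≫ i₀) (Over.w v₁))
  obtain ⟨ω, _, s, hω1, hsω, hsC⟩ := exists_shriek_extend f ι j pb i₀ hcm F V₁ σ hZ
  exact ⟨V, v, s, ρ_eq_of_transfer f ι j pb η η₀ j' hb hq F v₁ v (𝟙 V₁.left) (Category.comp_id _) t K' hK' τ hτK
    hτE σ hσ ω hω1 s.1 hsω hsC⟩

end Groth.Agent.ShriekH0c
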