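import Groth.Agent.ShriekH0c.Fibre
import Mathlib

/-!
Comparison of sections of a sheaf on `X` with sections of its direct image on `P`, for a common open
subscheme `W` of `X` and `P`, and the same after inverse image.
-/

set_option autoImplicit false
set_option backward.isDefEq.respectTransparency false
set_option backward.isDefEq.respectTransparency.types false
set_option linter.style.haveILetI false
set_option linter.unusedSectionVars false

universe u

open CategoryTheory CategoryTheory.Limits AlgebraicGeometry Opposite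

noncomputable section

namespace Groth.Agent.ShriekH0c

open Groth.Agent.EtH0Pair

variable {W X P : Scheme.{u}} (ι : W ⟶ X) (j : W ⟶ P) [IsOpenImmersion ι] [IsOpenImmersion j] (F : EtCoh.Ab X)

/-- the part over `W`, seen over `P` -/
abbrev Ψ : X.Etale ⥤ P.Etale := EtCoh.bc ι ⋙ EtShriek.compEtale j

/-- the part over `W`, seen over `X` -/
abbrev Ξ : P.Etale ⥤ X.Etale := EtCoh.bc j ⋙ EtShriek.compEtale ι

/-- the restriction to `W` pushed forward to `P` -/
abbrev Jsh : EtCoh.Ab P := (EtCoh.push j).obj ((EtShriek.restrAlong ι).obj F)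

theorem snd_eq {U : X.Etale} :
    (pullback.fst ((Ψ ι j).obj U).hom j : ((Ξ ι j).obj ((Ψ ι j).obj U)).left ⟶ ((Ψ ι j).obj U).left) ≫
      pullback.snd U.hom ι = pullback.snd ((Ψ ι j).obj U).hom j := by
  apply (cancel_mono j).1
  exact (Category.assoc _ _ _).trans pullback.condition

/-- the projection back -/
def ε (U : X.Etale) : (Ξ ι j).obj ((Ψ ι j).obj U) ⟶ U :=
  MorphismProperty.Over.homMk
    ((pullback.fst ((Ψ ι j).obj U).hom j : ((Ξ ι j).obj ((Ψ ι j).obj U)).left ⟶ ((Ψ ι j).obj U).left) ≫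
      pullback.fst U.hom ι) (by
    refine (Category.assoc _ _ _).trans ((congrArg (_ ≫ ·) pullback.condition).trans ?_)
    exact (Category.assoc _ _ _).symm.trans (congrArg (· ≫ ι) (snd_eq ι j)))

theorem ε_natural {U U' : X.Etale} (a : U' ⟶ U) :
    (Ξ ι j).map ((Ψ ι j).map a) ≫ ε ι j U = ε ι j U' ≫ a := by
  refine MorphismProperty.Over.Hom.ext ?_
  change ((EtCoh.bc j).map ((Ψ ι j).map a)).left ≫ _ ≫ pullback.fst U.hom ι =
    (_ ≫ pullback.fst U'.hom ι) ≫ a.left
  refine (Category.assoc _ _ _).symm.trans ((congrArg (· ≫ _) (EtShLib.bc_map_fst j ((Ψ ι j).map a))).trans ?_)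
  refine (Category.assoc _ _ _).trans ((congrArg (_ ≫ ·) (EtShLib.bc_map_fst ι a)).trans ?_)
  exact (Category.assoc _ _ _).symm

/-- a section seen on `P` -/
def sig (U : X.Etale) : EtCoh.sect F U →+ EtCoh.sect (Jsh ι j F) ((Ψ ι j).obj U) :=
  (F.obj.map (ε ι j U).op).hom

theorem sig_map {U U' : X.Etale} (a : U' ⟶ U) (s : EtCoh.sect F U) :
    (Jsh ι j F).obj.map ((Ψ ι j).map a).op (sig ι j F U s) = sig ι j F U' (F.obj.map a.op s) := by
  change F.obj.map ((Ξ ι j).map ((Ψ ι j).map a)).op (F.obj.map (ε ι j U).op s) =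
    F.obj.map (ε ι j U').op (F.obj.map a.op s)
  rw [map_map', map_map', ε_natural]

theorem mem_supp_push_iff {U : P.Etale} (σ : EtCoh.sect (Jsh ι j F) U) (w : ((Ξ ι j).obj U).left) :
    pullback.fst U.hom j w ∈ EtShriek.sectSupp (Jsh ι j F) U σ ↔
      w ∈ EtShriek.sectSupp F ((Ξ ι j).obj U) σ := by
  rw [← not_iff_not]
  constructor
  · intro h
    obtain ⟨U', g, ⟨u', hu'⟩, h0⟩ := (EtSect.mem_iff (Jsh ι j F) σ _).mp h
    obtain ⟨p, hp, -⟩ := exists_preimage_of_isPullback (EtCoh.isPullback_bc_map j g) w u' hu'.symm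
    exact (EtSect.mem_iff F σ w).mpr ⟨(Ξ ι j).obj U', (Ξ ι j).map g, ⟨p, hp⟩, h0⟩
  · intro h
    obtain ⟨W', g, ⟨x', hx'⟩, h0⟩ := (EtSect.mem_iff (S := X) F σ w).mp h
    haveI : Etale g.left := EtSect.etale_left g
    haveI : Etale ((EtCoh.bc j).obj U).hom := ((EtCoh.bc j).obj U).prop
    let gl : W'.left ⟶ ((EtCoh.bc j).obj U).left := g.left
    haveI : Etale gl := ‹Etale g.left›
    haveI : Etale (gl ≫ ((EtCoh.bc j).obj U).hom ≫ j) := inferInstance
    let U' : P.Etale := Scheme.Etale.mk (gl ≫ ((EtCoh.bc j).obj U).hom ≫ j)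
    let g2 : U' ⟶ U := MorphismProperty.Over.homMk (gl ≫ pullback.fst U.hom j)
      ((Category.assoc _ _ _).trans (congrArg (gl ≫ ·) pullback.condition))
    refine (EtSect.mem_iff (Jsh ι j F) σ _).mpr ⟨U', g2, ⟨x', ?_⟩, ?_⟩
    · exact congrArg (pullback.fst U.hom j) hx'
    · have hs : pullback.fst U'.hom j ≫ gl ≫ pullback.snd U.hom j = pullback.snd U'.hom j := by
        apply (cancel_mono j).1
        refine (Category.assoc _ _ _).trans ((congrArg (_ ≫ ·) (Category.assoc _ _ _)).trans ?_)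
        exact pullback.condition
      have hw : gl ≫ pullback.snd U.hom j ≫ ι = W'.hom := MorphismProperty.Over.w g
      let e : (Ξ ι j).obj U' ⟶ W' := MorphismProperty.Over.homMk (pullback.fst U'.hom j) (by
        rw [← hw]
        exact ((congrArg (_ ≫ ·) (Category.assoc _ _ _).symm).trans (Category.assoc _ _ _).symm).trans
          (congrArg (· ≫ ι) hs))
      have he : e ≫ g = (Ξ ι j).map g2 := by
        refine MorphismProperty.Over.Hom.ext ?_
        change pullback.fst U'.hom j ≫ gl = ((EtCoh.bc j).map g2).left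
        apply pullback.hom_ext
        · exact (Category.assoc _ _ _).trans (EtShLib.bc_map_fst j g2).symm
        · exact (Category.assoc _ _ _).trans (hs.trans (EtShLib.bc_map_snd j g2).symm)
      change F.obj.map ((Ξ ι j).map g2).op σ = 0
      rw [← he, ← map_map']
      exact (congrArg (F.obj.map e.op) h0).trans (map_zero _)

theorem mem_supp_sig_iff (U : X.Etale) (d : EtCoh.sect F U) (u : ((Ψ ι j).obj U).left) :
    u ∈ EtShriek.sectSupp (Jsh ι j F) ((Ψ ι j).obj U) (sig ι j F U d) ↔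
      pullback.fst U.hom ι u ∈ EtShriek.sectSupp F U d := by
  obtain ⟨w, hw, -⟩ := Scheme.Pullback.exists_preimage_pullback (f := ((Ψ ι j).obj U).hom) (g := j) u
    (pullback.snd U.hom ι u) (Scheme.Hom.comp_apply _ _ _)
  rw [← hw, mem_supp_push_iff]
  change w ∈ EtShriek.sectSupp F _ (F.obj.map (ε ι j U).op d) ↔ _
  rw [ShriekLQF.sectSupp_map, Set.mem_preimage]
  exact Iff.rfl

section Pull

variable {W' X' P' : Scheme.{u}} (ι' : W' ⟶ X') (j' : W' ⟶ P') [IsOpenImmersion ι'] [IsOpenImmersion j']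
  (a : X' ⟶ X) (b : P' ⟶ P) (c : W' ⟶ W) (ha : ι' ≫ a = c ≫ ι) (hb : j' ≫ b = c ≫ j)

/-- the underlying map of a transported map -/
def trLeft {E : W'.Etale} {U : X.Etale} (θ : (EtShriek.compEtale ι').obj E ⟶ (EtCoh.bc a).obj U) :
    E.left ⟶ ((Ψ ι j).obj U).left :=
  pullback.lift (θ.left ≫ pullback.fst U.hom a) (E.hom ≫ c) (by
    refine (Category.assoc _ _ _).trans ((congrArg (θ.left ≫ ·) pullback.condition).trans ?_)
    refine (Category.assoc _ _ _).symm.trans ((congrArg (· ≫ a) (MorphismProperty.Over.w θ)).trans ?_)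
    exact (Category.assoc _ _ _).trans ((congrArg (E.hom ≫ ·) ha).trans (Category.assoc _ _ _).symm))

include hb in
/-- a map over `X` transported to `P` -/
def tr {E : W'.Etale} {U : X.Etale} (θ : (EtShriek.compEtale ι').obj E ⟶ (EtCoh.bc a).obj U) :
    (EtShriek.compEtale j').obj E ⟶ (EtCoh.bc b).obj ((Ψ ι j).obj U) :=
  EtShLib.mkδ (T := (EtShriek.compEtale j').obj E) (o := (Ψ ι j).obj U) b (trLeft ι j ι' a c ha θ) (by
    refine Eq.trans (b := (E.hom ≫ c) ≫ j) ((Category.assoc _ _ _).symm.trans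
      (congrArg (· ≫ j) (pullback.lift_snd _ _ _))) ?_
    exact (Category.assoc _ _ _).trans ((congrArg (E.hom ≫ ·) hb.symm).trans (Category.assoc _ _ _).symm))

theorem tr_fst {E : W'.Etale} {U : X.Etale} (θ : (EtShriek.compEtale ι').obj E ⟶ (EtCoh.bc a).obj U) :
    (tr ι j ι' j' a b c ha hb θ).left ≫ pullback.fst ((Ψ ι j).obj U).hom b = trLeft ι j ι' a c ha θ :=
  EtShLib.mkδ_fst _ _ _

theorem tr_map {E : W'.Etale} {U U' : X.Etale} (θ : (EtShriek.compEtale ι').obj E ⟶ (EtCoh.bc a).obj U')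
    (e : U' ⟶ U) :
    tr ι j ι' j' a b c ha hb θ ≫ (EtCoh.bc b).map ((Ψ ι j).map e) =
      tr ι j ι' j' a b c ha hb (θ ≫ (EtCoh.bc a).map e) := by
  refine EtShLib.bc_ext _ ?_
  refine Eq.trans ?_ (tr_fst ι j ι' j' a b c ha hb _).symm
  refine (Category.assoc _ _ _).trans ((congrArg (_ ≫ ·) (EtShLib.bc_map_fst b ((Ψ ι j).map e))).trans ?_)
  refine (Category.assoc _ _ _).symm.trans ((congrArg (· ≫ _) (tr_fst ι j ι' j' a b c ha hb θ)).trans ?_)
  change trLeft ι j ι' a c ha θ ≫ ((EtCoh.bc ι).map e).left = _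
  apply pullback.hom_ext
  · refine (Category.assoc _ _ _).trans ((congrArg (_ ≫ ·) (EtShLib.bc_map_fst ι e)).trans ?_)
    refine (Category.assoc _ _ _).symm.trans ((congrArg (· ≫ _) (pullback.lift_fst _ _ _)).trans ?_)
    refine Eq.trans ?_ (pullback.lift_fst _ _ _).symm
    refine (Category.assoc _ _ _).trans ((congrArg (θ.left ≫ ·) (EtShLib.bc_map_fst a e).symm).trans ?_)
    exact (Category.assoc _ _ _).symm
  · refine (Category.assoc _ _ _).trans ((congrArg (_ ≫ ·) (EtShLib.bc_map_snd ι e)).trans ?_)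
    exact (pullback.lift_snd _ _ _).trans (pullback.lift_snd _ _ _).symm

theorem tr_comp {E E' : W'.Etale} {U : X.Etale} (φ : E' ⟶ E)
    (θ : (EtShriek.compEtale ι').obj E ⟶ (EtCoh.bc a).obj U) :
    (EtShriek.compEtale j').map φ ≫ tr ι j ι' j' a b c ha hb θ =
      tr ι j ι' j' a b c ha hb ((EtShriek.compEtale ι').map φ ≫ θ) := by
  refine EtShLib.bc_ext _ ?_
  refine Eq.trans ?_ (tr_fst ι j ι' j' a b c ha hb _).symm
  refine (Category.assoc _ _ _).trans ((congrArg (_ ≫ ·) (tr_fst ι j ι' j' a b c ha hb θ)).trans ?_)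
  change φ.left ≫ trLeft ι j ι' a c ha θ = _
  apply pullback.hom_ext
  · refine (Category.assoc _ _ _).trans ((congrArg (_ ≫ ·) (pullback.lift_fst _ _ _)).trans ?_)
    exact (Category.assoc _ _ _).symm.trans (pullback.lift_fst _ _ _).symm
  · refine (Category.assoc _ _ _).trans ((congrArg (_ ≫ ·) (pullback.lift_snd _ _ _)).trans ?_)
    refine Eq.trans ?_ (pullback.lift_snd _ _ _).symm
    exact (Category.assoc _ _ _).symm.trans (congrArg (· ≫ c) (MorphismProperty.Over.w φ))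

/-- agreement over `X` is the same as agreement over `P` -/
theorem res_eq_iff_tr {E : W'.Etale} {U₁ U₂ : X.Etale} (θ₁ : (EtShriek.compEtale ι').obj E ⟶ (EtCoh.bc a).obj U₁)
    (θ₂ : (EtShriek.compEtale ι').obj E ⟶ (EtCoh.bc a).obj U₂) (s₁ : EtCoh.sect F U₁) (s₂ : EtCoh.sect F U₂) :
    res a F θ₁ s₁ = res a F θ₂ s₂ ↔
      res b (Jsh ι j F) (tr ι j ι' j' a b c ha hb θ₁) (sig ι j F U₁ s₁) =
        res b (Jsh ι j F) (tr ι j ι' j' a b c ha hb θ₂) (sig ι j F U₂ s₂) := by
  obtain ⟨Q, a₁, a₂, χ, h₁, h₂⟩ := exists_bc_product a θ₁ θ₂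
  subst h₁ h₂
  rw [← res_map, ← res_map, res_eq_iff, ← tr_map, ← tr_map, ← res_map, ← res_map, sig_map, sig_map, res_eq_iff]
  refine forall_congr' fun w => not_congr ?_
  rw [← map_sub (sig ι j F Q), mem_supp_sig_iff]
  suffices e : pullback.fst Q.hom ι (pullback.fst ((Ψ ι j).obj Q).hom b ((tr ι j ι' j' a b c ha hb χ).left w)) =
      pullback.fst Q.hom a (χ.left w) by rw [e]
  have e' : ((tr ι j ι' j' a b c ha hb χ).left ≫ pullback.fst ((Ψ ι j).obj Q).hom b ≫ pullback.fst Q.hom ι :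
      E.left ⟶ Q.left) = χ.left ≫ pullback.fst Q.hom a := ?_
  · exact ((Scheme.Hom.comp_apply _ _ _).trans (Scheme.Hom.comp_apply _ _ _)).symm.trans
      ((congrArg (fun m : E.left ⟶ Q.left => m w) e').trans (Scheme.Hom.comp_apply _ _ _))
  exact (Category.assoc _ _ _).symm.trans ((congrArg (· ≫ pullback.fst Q.hom ι)
    (tr_fst ι j ι' j' a b c ha hb χ)).trans (pullback.lift_fst _ _ _))

theorem res_eq_zero_iff_tr {E : W'.Etale} {U : X.Etale} (θ : (EtShriek.compEtale ι').obj E ⟶ (EtCoh.bc a).obj U)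
    (s : EtCoh.sect F U) :
    res a F θ s = 0 ↔ res b (Jsh ι j F) (tr ι j ι' j' a b c ha hb θ) (sig ι j F U s) = 0 := by
  have h := res_eq_iff_tr ι j F ι' j' a b c ha hb θ θ s 0
  simpa only [map_zero] using h

end Pull

end Groth.Agent.ShriekH0c
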